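import Cfsg.Agent.Lib.UnitaryReg9.Basic
import Cfsg.Agent.Lib.Classical.UnitaryOrder

/-!
Witt's theorem inside `SU`, when some anisotropic vector is orthogonal to the target.
-/

set_option autoImplicit false
set_option linter.unusedSectionVars false

namespace Cfsg.Agent.Lib.UnitaryReg9

open Matrix Cfsg.Agent.Lib.Forms Cfsg.Agent.Lib.FormMax Cfsg.Agent.Lib.UnitaryMax

variable {F : Type*} [Field F] [Fintype F] {n q : ℕ}

local notation "h" => Cfsg.hermForm n F q

theorem exists_su_map (hF : Fintype.card F = q ^ 2) {k : ℕ} (v w : Fin k → Fin n → F)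
    (hv : LinearIndependent F v) (hw : LinearIndependent F w) (hgram : ∀ i j, h (v i) (v j) = h (w i) (w j))
    {z : Fin n → F} (hzz : h z z ≠ 0) (hzw : ∀ i, h (w i) z = 0) :
    ∃ g ∈ suGL n F q, ∀ i, (g : Matrix (Fin n) (Fin n) F) *ᵥ v i = w i := by
  obtain ⟨e, he, hev⟩ := (hermSesq_goodForm (n := n) hF).witt_family v w hv hw fun i j => by
    rw [hermSesq_apply, hermSesq_apply, hgram]
  set g₀ := (glEquiv (Fin n) F).symm e with hg₀
  have hg₀v : ∀ x, (g₀ : Matrix (Fin n) (Fin n) F) *ᵥ x = e x := fun x => glEquiv_symm_mulVec e x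
  have hmem : g₀ ∈ Cfsg.GU n F q := fun x y => by
    show h ((g₀ : Matrix (Fin n) (Fin n) F) *ᵥ x) ((g₀ : Matrix (Fin n) (Fin n) F) *ᵥ y) = h x y
    rw [hg₀v, hg₀v]
    simpa only [hermSesq_apply] using he y x
  set d := (g₀ : Matrix (Fin n) (Fin n) F).det with hd
  have hd1 : d ^ (q + 1) = 1 := Classical.det_norm_one hF ⟨g₀, hmem⟩
  have hd0 : d ≠ 0 := by
    intro h0; rw [h0, zero_pow (by omega)] at hd1; exact zero_ne_one hd1
  set α := (d⁻¹ - 1) / h z z with hα
  have hzq : h z z ^ q = h z z := herm_conj hF z z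
  have hrel : α + α ^ q + α * α ^ q * h z z = 0 := by
    have hd2 : d⁻¹ * (d⁻¹) ^ q = 1 := by rw [inv_pow, ← mul_inv, ← pow_succ', hd1, inv_one]
    have hb : (d⁻¹ - 1) + (d⁻¹ - 1) ^ q + (d⁻¹ - 1) * (d⁻¹ - 1) ^ q = 0 := by
      rw [q_sub hF, one_pow]; linear_combination hd2
    rw [hα, div_pow, hzq]
    generalize d⁻¹ - 1 = β at hb ⊢
    field_simp
    linear_combination hb
  set M : Matrix (Fin n) (Fin n) F := 1 + vecMulVec z (α • conjVec q z) with hM
  have hMv : ∀ x, M *ᵥ x = x + (α * h x z) • z := fun x => by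
    rw [hM, add_mulVec, one_mulVec, vecMulVec_mulVec, smul_dotProduct, conjVec_dotProduct]
    funext i; simp; ring
  have hMdet : M.det = d⁻¹ := by
    have e0 : M = 1 + vecMulVec z (α • conjVec q z) + vecMulVec z 0 := by
      rw [hM]; ext i j; simp [vecMulVec_apply]
    rw [e0, det_one_add_two, smul_dotProduct, conjVec_dotProduct, smul_eq_mul, hα,
      div_mul_cancel₀ _ hzz, zero_dotProduct]
    ring
  have hdet : (M * (g₀ : Matrix (Fin n) (Fin n) F)).det = 1 := by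
    rw [det_mul, hMdet, ← hd, inv_mul_cancel₀ hd0]
  have hpres : ∀ x y, h ((M * (g₀ : Matrix (Fin n) (Fin n) F)) *ᵥ x)
      ((M * (g₀ : Matrix (Fin n) (Fin n) F)) *ᵥ y) = h x y := by
    intro x y
    have e1 : h ((g₀ : Matrix (Fin n) (Fin n) F) *ᵥ x) ((g₀ : Matrix (Fin n) (Fin n) F) *ᵥ y) = h x y :=
      hmem x y
    rw [← e1, ← mulVec_mulVec, ← mulVec_mulVec, hMv, hMv]
    simp only [herm_add_left hF, herm_add_right hF, herm_smul_left hF, herm_smul_right hF, mul_pow,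
      herm_conj hF ((g₀ : Matrix (Fin n) (Fin n) F) *ᵥ y) z]
    linear_combination (h ((g₀ : Matrix (Fin n) (Fin n) F) *ᵥ x) z *
      h z ((g₀ : Matrix (Fin n) (Fin n) F) *ᵥ y)) * hrel
  refine ⟨glMk _ hdet, glMk_mem _ hdet hpres, fun i => ?_⟩
  rw [glMk_val, ← mulVec_mulVec, hg₀v, hev, hMv, hzw i, mul_zero, zero_smul, add_zero]

end Cfsg.Agent.Lib.UnitaryReg9
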