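import Cfsg.Agent.Lib.UnitaryMax.Basic

/-!
Scalars, expansions of the Hermitian form, and scaling of single root elements.
-/

set_option autoImplicit false
set_option linter.unusedSectionVars false

namespace Cfsg.Agent.Lib.UnitaryReg9

open Matrix Cfsg.Agent.Lib.Forms Cfsg.Agent.Lib.FormMax Cfsg.Agent.Lib.UnitaryMax

variable {F : Type*} [Field F] [Fintype F] {n q : ℕ}

local notation "Vs" => (Fin n → F)
local notation "h" => Cfsg.hermForm n F q

variable (hF : Fintype.card F = q ^ 2)
include hF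

theorem h_neg_left (u v : Vs) : h (-u) v = -h u v := by
  simp only [← hermSesq_apply hF, map_neg]

theorem h_neg_right (u v : Vs) : h u (-v) = -h u v := by
  simp only [← hermSesq_apply hF, map_neg, LinearMap.neg_apply]

theorem q_real_mul {r : F} (hr : r ^ q = r) {c : F} (hc : c + c ^ q = 0) : r * c + (r * c) ^ q = 0 := by
  rw [mul_pow, hr]; linear_combination r * hc

theorem q_skew_eq {c : F} (hc : c + c ^ q = 0) : c ^ q = -c := eq_neg_of_add_eq_zero_right hc

/-- `r` is a norm iff it is real. -/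
theorem exists_norm {r : F} (hr : r ^ q = r) : ∃ s : F, s * s ^ q = r := by
  have hfix : qPowHom hF r = r := by rw [qPowHom_apply]; exact hr
  obtain ⟨x, hx⟩ := exists_norm_eq (qPowHom_ne_id hF) (qPowHom_qPowHom hF) hfix
  refine ⟨x, ?_⟩
  rw [qPowHom_apply] at hx
  exact hx

theorem q_trace (a : F) : (a + a ^ q) ^ q = a + a ^ q := by
  rw [q_add hF, pow_q_pow_q hF, add_comm]

theorem q_norm (a : F) : (a * a ^ q) ^ q = a * a ^ q := by
  rw [mul_pow, pow_q_pow_q hF, mul_comm]

theorem q_div_self {a : F} (ha : a ≠ 0) : a ^ q ≠ 0 := pow_ne_zero _ ha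

theorem exists_trace {r : F} (hr : r ^ q = r) : ∃ t : F, t + t ^ q = r := by
  obtain ⟨τ, hτ⟩ := exists_trace_one hF
  exact ⟨r * τ, by rw [mul_pow, hr]; linear_combination r * hτ⟩

/-- Every skew scalar is `t ^ q - t`. -/
theorem exists_sub_conj {c : F} (hc : c + c ^ q = 0) : ∃ t : F, t ^ q - t = c := by
  obtain ⟨τ, hτ⟩ := exists_trace_one hF
  refine ⟨-(c * τ), ?_⟩
  rw [q_neg hF, mul_pow, q_skew_eq hF hc]
  linear_combination c * hτ

omit hF

/-- The real numbers of `F` are generated, as a ring, by `ν`. -/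
def Gen (q : ℕ) (ν : F) : Prop :=
  ∀ K : Subring F, ν ∈ K → ∀ r : F, r ^ q = r → r ∈ K

variable {H : Subgroup (GL (Fin n) F)}

theorem T_add (v : Vs) (c d : F) (hv : h v v = 0) :
    T v c hv * T v d hv = T (q := q) v (c + d) hv := by
  refine gl_ext fun x => ?_
  have : (c • conjVec q v) ⬝ᵥ v = 0 := conjVec_dot_singular c hv
  rw [Units.val_mul, ← mulVec_mulVec, T_mulVec, T_mulVec, T_mulVec]
  have e : h (x + (d * h x v) • v) v = h x v := by
    rw [← conjVec_dotProduct, dotProduct_add, dotProduct_smul, conjVec_dotProduct, conjVec_dotProduct, hv,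
      smul_zero, add_zero]
  rw [e]
  module

theorem T_zero_coeff (v : Vs) (hv : h v v = 0) : T (q := q) v 0 hv = 1 :=
  gl_ext fun x => by rw [T_mulVec, zero_mul, zero_smul, add_zero, Units.val_one, one_mulVec]

include hF

/-- Scaling: a root element whose line is moved to itself with a scalar of generating norm gives the
whole root subgroup. -/
theorem root_of_scaling (hH : H ≤ suGL n F q) {v : Vs} {hv : h v v = 0} {c₀ : F} (hc : c₀ + c₀ ^ q = 0)
    (hc₀ : c₀ ≠ 0) (hT : T (q := q) v c₀ hv ∈ H) {w : GL (Fin n) F} (hw : w ∈ H) {κ : F}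
    (hwv : (w : Matrix (Fin n) (Fin n) F) *ᵥ v = κ • v) (hgen : Gen q (κ * κ ^ q)) : v ∈ root q H := by
  let A : AddSubgroup F :=
    { carrier := {c | T (q := q) v c hv ∈ H}
      zero_mem' := by show T v 0 hv ∈ H; rw [T_zero_coeff]; exact H.one_mem
      add_mem' := fun {a b} ha hb => by
        show T v (a + b) hv ∈ H; rw [← T_add v a b hv]; exact H.mul_mem ha hb
      neg_mem' := fun {a} ha => by
        show T v (-a) hv ∈ H
        have e : T (q := q) v a hv * T v (-a) hv = 1 := by rw [T_add, add_neg_cancel, T_zero_coeff]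
        rw [eq_inv_of_mul_eq_one_right e]
        exact H.inv_mem ha }
  have hmul : ∀ c ∈ A, κ * κ ^ q * c ∈ A := by
    intro c hcA
    have h1 := H.mul_mem (H.mul_mem hw hcA) (H.inv_mem hw)
    show T v (κ * κ ^ q * c) hv ∈ H
    rw [conj_T (hH hw) v c hv] at h1
    convert h1 using 1
    refine gl_ext fun x => ?_
    rw [T_mulVec, T_mulVec, hwv, herm_smul_right hF, smul_smul]
    congr 2
    ring
  let K : Subring F :=
    { carrier := {r | ∀ c ∈ A, r * c ∈ A}
      mul_mem' := fun {a b} ha hb c hc => by rw [mul_assoc]; exact ha _ (hb c hc)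
      one_mem' := fun c hc => by rw [one_mul]; exact hc
      add_mem' := fun {a b} ha hb c hc => by rw [add_mul]; exact A.add_mem (ha c hc) (hb c hc)
      zero_mem' := fun c _ => by rw [zero_mul]; exact A.zero_mem
      neg_mem' := fun {a} ha c hc => by rw [neg_mul]; exact A.neg_mem (ha c hc) }
  refine ⟨hv, fun c hcs => ?_⟩
  have hr : (c / c₀) ^ q = c / c₀ := by
    rw [div_pow, q_skew_eq hF hcs, q_skew_eq hF hc, neg_div_neg_eq]
  have := hgen K hmul _ hr c₀ hT
  rw [div_mul_cancel₀ _ hc₀] at this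
  exact this

end Cfsg.Agent.Lib.UnitaryReg9
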