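import Cfsg.Agent.Lib.UnitaryReg9.Basic
import Cfsg.Agent.Lib.UnitaryMax.FrameEq

/-!
Elements generating the real subfield.
-/

set_option autoImplicit false
set_option linter.unusedSectionVars false

namespace Cfsg.Agent.Lib.UnitaryReg9

open Cfsg.Agent.Lib.Forms Cfsg.Agent.Lib.UnitaryMax Polynomial

variable {F : Type*} [Field F] [Fintype F] [DecidableEq F] {p f q : ℕ}

/-- Real elements lying in a proper subfield. -/
def badSet (p q : ℕ) (F : Type*) [Field F] [Fintype F] [DecidableEq F] : Finset F :=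
  Finset.univ.filter fun x => x ^ q = x ∧ ((Finset.range (q + 1)).filter fun d => 1 ≤ d ∧ p ^ (2 * d) ≤ q ∧ x ^ p ^ d = x).Nonempty

variable (hF : Fintype.card F = q ^ 2)
include hF

theorem exists_prime_power : ∃ p f : ℕ, p.Prime ∧ CharP F p ∧ 1 ≤ f ∧ q = p ^ f := by
  obtain ⟨k, hp, hk⟩ := FiniteField.card F (ringChar F)
  have hdvd : q ∣ ringChar F ^ (k : ℕ) := by rw [← hk, hF]; exact dvd_pow_self q (by norm_num)
  obtain ⟨f, -, hf⟩ := (Nat.dvd_prime_pow hp).mp hdvd
  refine ⟨ringChar F, f, hp, ringChar.charP F, ?_, hf⟩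
  by_contra h0
  have := two_le_of_card_sq hF
  rw [hf, show f = 0 by omega, pow_zero] at this
  omega

theorem gen_of_not_bad (hp : p.Prime) [CharP F p] {ν : F} (hν : ν ^ q = ν) (hbad : ν ∉ badSet p q F) :
    Gen q ν := by
  intro K hK r hr
  have hinv : ∀ x ∈ K, x⁻¹ ∈ K := by
    intro x hx
    rcases eq_or_ne x 0 with rfl | hx0
    · rw [inv_zero]; exact K.zero_mem
    have h1 := FiniteField.pow_card_sub_one_eq_one x hx0
    have h2 : 1 < Fintype.card F := Fintype.one_lt_card
    rw [show Fintype.card F - 1 = (Fintype.card F - 2) + 1 by omega, pow_succ] at h1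
    rw [inv_eq_of_mul_eq_one_left h1]
    exact K.pow_mem hx _
  let R : Subfield F :=
    { carrier := {x | x ^ q = x}
      mul_mem' := fun {a b} ha hb => by show (a * b) ^ q = a * b; rw [mul_pow, ha, hb]
      one_mem' := one_pow q
      add_mem' := fun {a b} ha hb => by show (a + b) ^ q = a + b; rw [q_add hF, ha, hb]
      zero_mem' := q_zero hF
      neg_mem' := fun {a} ha => by show (-a) ^ q = -a; rw [q_neg hF, ha]
      inv_mem' := fun a ha => by show a⁻¹ ^ q = a⁻¹; rw [inv_pow, ha] }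
  let S : Subfield F := { K with inv_mem' := hinv }
  let L : Subfield F := S ⊓ R
  by_contra hrK
  have hLR : Set.ncard (L : Set F) < Set.ncard (R : Set F) := by
    refine Set.ncard_lt_ncard (Set.ssubset_iff_exists.mpr ⟨fun x hx => hx.2, r, hr, fun hh => hrK hh.1⟩)
  have hR : Set.ncard (R : Set F) = q := by
    rw [show (R : Set F) = ↑(fixedField q F) from Set.ext fun x => by
      rw [Finset.mem_coe, mem_fixedField]; exact Iff.rfl, Set.ncard_coe_finset, card_fixedField hF]
  letI : Algebra L R := (Subfield.inclusion (inf_le_right : L ≤ R)).toAlgebra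
  haveI : Fintype L := Fintype.ofFinite L
  haveI : Fintype R := Fintype.ofFinite R
  haveI : Module.Finite L R := Module.Finite.of_finite
  have hpow := Module.card_eq_pow_finrank (K := L) (V := R)
  obtain ⟨d, -, hd⟩ := FiniteField.card L p
  have e1 : Fintype.card L = Set.ncard (L : Set F) := by
    rw [← Nat.card_coe_set_eq, ← Nat.card_eq_fintype_card]; rfl
  have e2 : Fintype.card R = q := by
    rw [← hR, ← Nat.card_coe_set_eq, ← Nat.card_eq_fintype_card]; rfl
  rw [e1, e2] at hpow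
  have h2 : 2 ≤ Module.finrank L R := by
    by_contra h2
    interval_cases hk : Module.finrank L R
    · rw [pow_zero] at hpow; have := two_le_of_card_sq hF; omega
    · rw [pow_one] at hpow; omega
  have hle : Set.ncard (L : Set F) ^ 2 ≤ q := by
    calc Set.ncard (L : Set F) ^ 2 ≤ Set.ncard (L : Set F) ^ Module.finrank L R :=
          Nat.pow_le_pow_right (by rw [← e1]; exact Fintype.card_pos) h2
      _ = q := hpow.symm
  rw [← e1, hd, ← pow_mul, mul_comm] at hle
  have hd1 : 1 ≤ (d : ℕ) := d.2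
  refine hbad (Finset.mem_filter.mpr ⟨Finset.mem_univ _, hν, d,
    Finset.mem_filter.mpr ⟨Finset.mem_range.mpr ?_, hd1, hle, ?_⟩⟩)
  · have h3 : (d : ℕ) < p ^ (d : ℕ) := Nat.lt_pow_self hp.one_lt
    have h4 : p ^ (d : ℕ) ≤ p ^ (2 * (d : ℕ)) := Nat.pow_le_pow_right hp.pos (by omega)
    omega
  · have h5 := congrArg (fun x : L => (x : F)) (FiniteField.pow_card (⟨ν, hK, hν⟩ : L))
    simp only [SubmonoidClass.coe_pow, hd] at h5
    exact h5

/-- The number of bad elements other than zero and one. -/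
theorem card_bad (hp : p.Prime) (hq : q = p ^ f) :
    2 * ((badSet p q F) \ {0, 1}).card + 4 ≤ q ∨ badSet p q F = ∅ := by
  by_cases hf : f < 2
  · right
    rw [Finset.eq_empty_iff_forall_notMem]
    intro x hx
    obtain ⟨-, -, d, hd'⟩ := Finset.mem_filter.mp hx
    obtain ⟨-, hd, hle, -⟩ := Finset.mem_filter.mp hd'
    rw [hq] at hle
    have := (Nat.pow_le_pow_iff_right hp.one_lt).mp hle
    omega
  left
  have hsub : badSet p q F \ {0, 1} ⊆ (Finset.Icc 1 (f / 2)).biUnion fun d =>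
      ((X ^ p ^ d - X : F[X]).roots.toFinset) \ {0, 1} := by
    intro x hx
    obtain ⟨hx, hx01⟩ := Finset.mem_sdiff.mp hx
    obtain ⟨-, -, d, hd'⟩ := Finset.mem_filter.mp hx
    obtain ⟨-, hd, hle, hxd⟩ := Finset.mem_filter.mp hd'
    rw [hq] at hle
    have := (Nat.pow_le_pow_iff_right hp.one_lt).mp hle
    refine Finset.mem_biUnion.mpr ⟨d, Finset.mem_Icc.mpr ⟨hd, by omega⟩, Finset.mem_sdiff.mpr ⟨?_, hx01⟩⟩
    rw [Multiset.mem_toFinset, mem_roots (FiniteField.X_pow_card_sub_X_ne_zero F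
      (Nat.one_lt_pow (by omega) hp.one_lt))]
    simp [hxd]
  have hone : ∀ d ∈ Finset.Icc 1 (f / 2),
      (((X ^ p ^ d - X : F[X]).roots.toFinset) \ {0, 1}).card ≤ p ^ d - 2 := by
    intro d hd
    have hd1 := (Finset.mem_Icc.mp hd).1
    have hpd : 1 < p ^ d := Nat.one_lt_pow (by omega) hp.one_lt
    have hne := FiniteField.X_pow_card_sub_X_ne_zero F hpd
    have h01 : ({0, 1} : Finset F) ⊆ (X ^ p ^ d - X : F[X]).roots.toFinset := by
      intro y hy
      rw [Multiset.mem_toFinset, mem_roots hne]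
      simp only [Finset.mem_insert, Finset.mem_singleton] at hy
      rcases hy with rfl | rfl <;> simp [zero_pow (show p ^ d ≠ 0 by omega)]
    rw [Finset.card_sdiff_of_subset h01, Finset.card_pair zero_ne_one]
    have h1 := (Multiset.toFinset_card_le _).trans (card_roots' (X ^ p ^ d - X : F[X]))
    rw [FiniteField.X_pow_card_sub_X_natDegree_eq F hpd] at h1
    omega
  have hsum : ∀ m, 1 ≤ m → 2 * (∑ d ∈ Finset.Icc 1 m, (p ^ d - 2)) + 4 ≤ p ^ (2 * m) := by
    intro m hm
    have h2 := hp.two_le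
    induction m, hm using Nat.le_induction with
    | base =>
      rw [Finset.Icc_self, Finset.sum_singleton]
      have : p * 2 ≤ p * p := Nat.mul_le_mul_left p h2
      rw [show 2 * 1 = 1 + 1 from rfl, pow_add, pow_one]
      omega
    | succ m hm ih =>
      rw [Finset.sum_Icc_succ_top (by omega)]
      have h3 : p ^ (m + 1) ≤ p ^ (2 * m) := Nat.pow_le_pow_right hp.pos (by omega)
      have h4 : p ^ (2 * m) * 4 ≤ p ^ (2 * (m + 1)) := by
        rw [show 2 * (m + 1) = 2 * m + 2 by ring, pow_add]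
        exact Nat.mul_le_mul_left _ (by rw [sq]; exact Nat.mul_le_mul h2 h2)
      omega
  have h1 := (Finset.card_le_card hsub).trans (Finset.card_biUnion_le.trans (Finset.sum_le_sum hone))
  have h2 := hsum (f / 2) (by omega)
  have h3 : p ^ (2 * (f / 2)) ≤ q := hq ▸ Nat.pow_le_pow_right hp.pos (by omega)
  omega

omit hF [DecidableEq F] in
theorem gen_inv {ν : F} (hν : Gen q ν) : Gen q ν⁻¹ := by
  intro K hK
  refine hν K ?_
  rcases eq_or_ne ν 0 with rfl | hν0
  · exact K.zero_mem
  have hk0 : ν⁻¹ ≠ 0 := inv_ne_zero hν0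
  have h1 := FiniteField.pow_card_sub_one_eq_one ν⁻¹ hk0
  have h2 : 1 < Fintype.card F := Fintype.one_lt_card
  rw [show Fintype.card F - 1 = (Fintype.card F - 2) + 1 by omega, pow_succ] at h1
  rw [← inv_inv ν, inv_eq_of_mul_eq_one_left h1]
  exact K.pow_mem hK _

/-- A real multiple of a given scalar whose norm from one generates. -/
theorem exists_gen (hq3 : 3 ≤ q) {ζ : F} (hζ : ζ ≠ 0) :
    ∃ t : F, t ^ q = t ∧ t ≠ 0 ∧ 1 - t * ζ ≠ 0 ∧ Gen q (((1 - t * ζ) * (1 - t * ζ) ^ q)⁻¹) := by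
  obtain ⟨p, f, hp, hc, -, hq⟩ := exists_prime_power hF
  set Nf : F → F := fun t => (1 - t * ζ) * (1 - t * ζ) ^ q with hNf
  by_contra hno
  push Not at hno
  have hNform : ∀ t : F, t ^ q = t → Nf t = 1 - t * (ζ + ζ ^ q) + t * t * (ζ * ζ ^ q) := fun t ht => by
    simp only [hNf, q_sub hF, one_pow, mul_pow, ht]; ring
  have hNζ : ζ * ζ ^ q ≠ 0 := mul_ne_zero hζ (pow_ne_zero _ hζ)
  set T := (fixedField q F).erase 0 with hT
  have hTc : T.card = q - 1 := by
    rw [hT, Finset.card_erase_of_mem (by simp [q_zero hF]), card_fixedField hF]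
  have hmem : ∀ t ∈ T, t * ζ = 1 ∨ (t * ζ ≠ 1 ∧ Nf t ∈ badSet p q F) := by
    intro t ht
    obtain ⟨ht0, htF⟩ := Finset.mem_erase.mp ht
    rw [mem_fixedField] at htF
    by_cases h1 : t * ζ = 1
    · exact Or.inl h1
    refine Or.inr ⟨h1, ?_⟩
    by_contra hb
    exact hno t htF ht0 (sub_ne_zero.mpr (fun e => h1 e.symm))
      (gen_inv (gen_of_not_bad hF hp (q_norm hF _) hb))
  rcases card_bad hF hp hq with hcard | hempty
  swap
  · have hT1 : T ⊆ {ζ⁻¹} := fun t ht => by
      rcases hmem t ht with h1 | ⟨-, h1⟩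
      · rw [Finset.mem_singleton]; exact eq_inv_of_mul_eq_one_left h1
      · rw [hempty] at h1; exact absurd h1 (Finset.notMem_empty _)
    have := Finset.card_le_card hT1
    rw [Finset.card_singleton, hTc] at this
    omega
  set U := badSet p q F \ {0, 1}
  have hsub : T ⊆ insert ζ⁻¹ (insert ((ζ + ζ ^ q) / (ζ * ζ ^ q))
      (U.biUnion fun v => T.filter fun t => Nf t = v)) := by
    intro t ht
    obtain ⟨ht0, htF⟩ := Finset.mem_erase.mp ht
    rw [mem_fixedField] at htF
    rcases hmem t ht with h1 | ⟨h1, hb⟩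
    · rw [Finset.mem_insert]; exact Or.inl (eq_inv_of_mul_eq_one_left h1)
    refine Finset.mem_insert_of_mem ?_
    by_cases hv : Nf t = 1
    · rw [Finset.mem_insert]; left
      rw [hNform t htF] at hv
      rw [eq_div_iff hNζ]
      exact mul_left_cancel₀ ht0 (by linear_combination hv)
    refine Finset.mem_insert_of_mem (Finset.mem_biUnion.mpr ⟨Nf t, Finset.mem_sdiff.mpr ⟨hb, ?_⟩,
      Finset.mem_filter.mpr ⟨ht, rfl⟩⟩)
    simp only [Finset.mem_insert, Finset.mem_singleton, not_or]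
    refine ⟨?_, hv⟩
    have hne : 1 - t * ζ ≠ 0 := sub_ne_zero.mpr fun e => h1 e.symm
    exact mul_ne_zero hne (pow_ne_zero _ hne)
  have hfib : ∀ v ∈ U, (T.filter fun t => Nf t = v).card ≤ 2 := by
    intro v _
    rcases (T.filter fun t => Nf t = v).eq_empty_or_nonempty with he | ⟨t₁, ht₁⟩
    · rw [he]; simp
    refine (Finset.card_le_card (t := {t₁, (ζ + ζ ^ q) / (ζ * ζ ^ q) - t₁}) ?_).trans Finset.card_le_two
    intro t ht
    obtain ⟨ht', e⟩ := Finset.mem_filter.mp ht
    obtain ⟨ht₁', e₁⟩ := Finset.mem_filter.mp ht₁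
    simp only [hT, Finset.mem_erase, mem_fixedField] at ht' ht₁'
    rw [hNform t ht'.2] at e
    rw [hNform t₁ ht₁'.2] at e₁
    rw [Finset.mem_insert, Finset.mem_singleton, eq_sub_iff_add_eq, eq_div_iff hNζ]
    by_cases hne : t = t₁
    · exact Or.inl hne
    · exact Or.inr (mul_left_cancel₀ (sub_ne_zero.mpr hne) (by linear_combination e - e₁))
  have h1 := Finset.card_le_card hsub
  have h2 := (Finset.card_insert_le ζ⁻¹ (insert ((ζ + ζ ^ q) / (ζ * ζ ^ q))
      (U.biUnion fun v => T.filter fun t => Nf t = v)))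
  have h3 := Finset.card_insert_le ((ζ + ζ ^ q) / (ζ * ζ ^ q))
      (U.biUnion fun v => T.filter fun t => Nf t = v)
  have h4 := Finset.card_biUnion_le_card_mul U (fun v => T.filter fun t => Nf t = v) 2 hfib
  omega

omit [Fintype F] [DecidableEq F] in
omit hF in
theorem gen_two {ν : F} (hq : q = 2) : Gen q ν := by
  intro K _ r hr
  subst hq
  rcases eq_or_ne r 0 with rfl | h0
  · exact K.zero_mem
  · have : r = 1 := mul_left_cancel₀ h0 (by linear_combination hr)
    rw [this]; exact K.one_mem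

end Cfsg.Agent.Lib.UnitaryReg9
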