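import Cfsg.Agent.Lib.UnitaryReg9.Exists
import Cfsg.Agent.Lib.UnitaryReg9.Field
import Cfsg.Agent.Lib.UnitaryReg9.Witt

/-!
Three conjugates of a regular unipotent generating `SU_n(q)`, `n ≥ 5`.
-/

set_option autoImplicit false
set_option linter.unusedSectionVars false

namespace Cfsg.Agent.Lib.UnitaryReg9

open Matrix Cfsg.Agent.Lib.Forms Cfsg.Agent.Lib.FormMax Cfsg.Agent.Lib.UnitaryMax

variable {F : Type*} [Field F] [Fintype F] {n q : ℕ}

local notation "Vs" => (Fin n → F)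
local notation "h" => Cfsg.hermForm n F q

variable (hF : Fintype.card F = q ^ 2) {u : GL (Fin n) F} {y₀ : Fin n → F} (R : Reg q u y₀)
include hF R

theorem hEE (hn : 3 ≤ n) : h ((nu u ^ (n - 1)) y₀) ((nu u ^ (n - 1)) y₀) = 0 := by
  refine h_pow_eq_zero hF R.mem (n - 1) _ _ ?_
  rw [← Module.End.mul_apply, ← pow_add, pow_ge hF R (by omega)]

theorem exists_f₀ (hn : 3 ≤ n) : ∃ f : Vs, h f f = 0 ∧ h f ((nu u ^ (n - 1)) y₀) = 1 := by
  obtain ⟨t, ht⟩ := exists_fill hF (hEE hF R hn) (h_y₀_ne hF R (by omega))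
  set e := (nu u ^ (n - 1)) y₀
  have h1 : h (y₀ + t • e) e = h y₀ e := by
    rw [herm_add_left hF, herm_smul_left hF, hEE hF R hn, mul_zero, add_zero]
  refine ⟨(h y₀ e)⁻¹ • (y₀ + t • e), ?_, ?_⟩
  · rw [herm_smul_left hF, herm_smul_right hF, ht, mul_zero, mul_zero]
  · rw [herm_smul_left hF, h1, inv_mul_cancel₀ (h_y₀_ne hF R (by omega))]

/-- The invariant `h(N²f, Nf)`. -/
def dd (q : ℕ) (u : GL (Fin n) F) (f : Fin n → F) : F :=
  Cfsg.hermForm n F q (nu u (nu u f)) (nu u f)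

theorem B_eq {f : Vs} (hff : h f f = 0) :
    h ((u : Matrix (Fin n) (Fin n) F) *ᵥ f) f = h (nu u f) f := by
  rw [u_eq, herm_add_left hF, hff, zero_add]

theorem B_trace {f : Vs} (hff : h f f = 0) :
    h (nu u f) f + h (nu u f) f ^ q + h (nu u f) (nu u f) = 0 := by
  have h1 := apply_K R.mem f f
  rw [u_eq, herm_add_left hF, herm_add_right hF, herm_add_right hF, hff, ← herm_conj hF (nu u f) f] at h1
  linear_combination h1

theorem C_eq {f : Vs} (hff : h f f = 0) :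
    h ((u : Matrix (Fin n) (Fin n) F) *ᵥ ((u : Matrix (Fin n) (Fin n) F) *ᵥ f)) f =
      2 * h (nu u f) f + (h (nu u f) f + h (nu u f) f ^ q) - dd q u f := by
  have h1 : h (nu u (nu u f)) f = -h (nu u f) (nu u f) - dd q u f := by
    rw [h_nu hF R.mem, u_eq, herm_add_left hF, dd]; ring
  rw [u_eq, u_eq, map_add, herm_add_left hF, herm_add_left hF, herm_add_left hF, hff, h1]
  linear_combination -(B_trace hF R hff)

/-- Jordan chain vectors. -/
theorem exists_chain (hn : 5 ≤ n) : ∃ e₂ e₃ e₄ : Vs,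
    nu u e₂ = (nu u ^ (n - 1)) y₀ ∧ nu u e₃ = e₂ ∧ nu u e₄ = e₃ ∧
      h e₂ e₂ = 0 ∧ h e₂ e₃ = 0 := by
  refine ⟨(nu u ^ (n - 2)) y₀, (nu u ^ (n - 3)) y₀, (nu u ^ (n - 4)) y₀, ?_, ?_, ?_, ?_, ?_⟩
  · rw [← Module.End.mul_apply, ← pow_succ', show n - 2 + 1 = n - 1 by omega]
  · rw [← Module.End.mul_apply, ← pow_succ', show n - 3 + 1 = n - 2 by omega]
  · rw [← Module.End.mul_apply, ← pow_succ', show n - 4 + 1 = n - 3 by omega]
  all_goals
    refine h_pow_eq_zero hF R.mem (n - 2) _ _ ?_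
    rw [← Module.End.mul_apply, ← pow_add, pow_ge hF R (by omega)]

/-- The values of `h(uf, f)` and the shift of `h(N²f, Nf)` are arbitrary. -/
theorem exists_f (hn : 5 ≤ n) : ∃ D₀ : F, ∀ B σ : F, σ + σ ^ q = 0 → ∃ f : Vs,
    h f f = 0 ∧ h f ((nu u ^ (n - 1)) y₀) = 1 ∧
    h ((u : Matrix (Fin n) (Fin n) F) *ᵥ f) f = B ∧
    h ((u : Matrix (Fin n) (Fin n) F) *ᵥ ((u : Matrix (Fin n) (Fin n) F) *ᵥ f)) f
      = 2 * B + (B + B ^ q) - (D₀ + σ) := by
  obtain ⟨f₀, hf₀, hf₀e⟩ := exists_f₀ hF R (by omega)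
  obtain ⟨e₂, e₃, e₄, he₂, he₃, he₄, h22, h23⟩ := exists_chain hF R hn
  set e := (nu u ^ (n - 1)) y₀ with he
  have hne : nu u e = 0 := nu_fixed hF R (by omega)
  have hee : h e e = 0 := hEE hF R (by omega)
  have hNe : ∀ x, h (nu u x) e = 0 := h_nu_fixed hF R (by omega)
  have hue : ∀ x, h ((u : Matrix (Fin n) (Fin n) F) *ᵥ x) e = h x e := fun x => by
    rw [u_eq, herm_add_left hF, hNe, add_zero]
  have h2e : h e₂ e = 0 := by rw [← he₃]; exact hNe _
  have h3e : h e₃ e = 0 := by rw [← he₄]; exact hNe _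
  have hN2 : ∀ x, h (nu u x) e₂ = -h x e := fun x => by rw [h_nu hF R.mem, he₂, hue]
  have hN3 : ∀ x, h (nu u x) e₃ = h x e - h x e₂ := fun x => by
    rw [h_nu hF R.mem, he₃]
    have h1 := apply_K R.mem x e₂
    rw [u_eq u e₂, he₂, herm_add_right hF, hue] at h1
    linear_combination -h1
  -- singular correction along `e`
  have fill : ∀ x, h x e = 1 → ∃ t : F, h (x + t • e) (x + t • e) = 0 ∧ h (x + t • e) e = 1 ∧
      nu u (x + t • e) = nu u x := by
    intro x hx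
    obtain ⟨t, ht⟩ := exists_fill hF hee (show h x e ≠ 0 by rw [hx]; exact one_ne_zero)
    exact ⟨t, ht, by rw [herm_add_left hF, herm_smul_left hF, hee, mul_zero, add_zero, hx],
      by rw [map_add, map_smul, hne, smul_zero, add_zero]⟩
  refine ⟨dd q u f₀, fun B σ hσ => ?_⟩
  -- adjust `dd`
  obtain ⟨s₀, hs₀⟩ := exists_sub_conj hF hσ
  obtain ⟨r₁, hf₁, hf₁e, hNf₁⟩ := fill (f₀ + s₀ • e₄) (by
    have h4e : h e₄ e = 0 := by
      obtain ⟨c, hc⟩ := exists_coeff hF R e₄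
      have hj : (nu u ^ 4) e₄ = 0 := by
        rw [show (4 : ℕ) = 3 + 1 from rfl, pow_succ, Module.End.mul_apply, he₄,
          show (3 : ℕ) = 2 + 1 from rfl, pow_succ, Module.End.mul_apply, he₃,
          show (2 : ℕ) = 1 + 1 from rfl, pow_succ, Module.End.mul_apply, he₂, pow_one, hne]
      rw [hc, ← hermSesq_apply hF, map_sum]
      refine Finset.sum_eq_zero fun i _ => ?_
      rw [hermSesq_apply, herm_smul_left hF]
      rcases Nat.eq_zero_or_pos (i : ℕ) with hi | hi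
      · rw [coeff_zero hF R (c := c) (j := 4) (hc ▸ hj) i (by omega), zero_mul]
      · obtain ⟨k, hk⟩ := Nat.exists_eq_add_of_le hi
        rw [hk, pow_add, pow_one, Module.End.mul_apply, hNe, mul_zero]
    rw [herm_add_left hF, herm_smul_left hF, hf₀e, h4e, mul_zero, add_zero])
  set f₁ := f₀ + s₀ • e₄ + r₁ • e
  have hd₁ : dd q u f₁ = dd q u f₀ + σ := by
    have hy : nu u f₁ = nu u f₀ + s₀ • e₃ := by rw [hNf₁, map_add, map_smul, he₄]
    rw [dd, dd, hy, map_add, map_smul, he₃, herm_add_left hF, herm_add_right hF, herm_add_right hF,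
      herm_smul_left hF, herm_smul_left hF, herm_smul_right hF, herm_smul_right hF, hN3, hNe, h23]
    have h2y : h e₂ (nu u f₀) = -1 := by
      rw [← herm_conj hF, hN2, hf₀e, q_neg hF, one_pow]
    have h2y' : h (nu u f₀) e₂ = -1 := by rw [hN2, hf₀e]
    rw [h2y, h2y']
    linear_combination hs₀
  -- adjust `h(uf, f)`
  set B₁ := h (nu u f₁) f₁ with hB₁
  obtain ⟨s, hs⟩ := exists_trace hF (r := B - B₁ + (B - B₁) ^ q) (q_trace hF _)
  set τ := B - B₁ - (s ^ q * (1 - h f₁ e₂) + s * h e₂ f₁) with hτ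
  have hτskew : τ + τ ^ q = 0 := by
    rw [hτ]
    simp only [q_sub hF, q_add hF, mul_pow, one_pow, pow_q_pow_q hF, herm_conj hF f₁ e₂,
      herm_conj hF e₂ f₁]
    rw [q_sub hF] at hs
    linear_combination -hs
  obtain ⟨t₀, ht₀⟩ := exists_sub_conj hF hτskew
  obtain ⟨r, hf, hfe, hNf⟩ := fill (f₁ + s • e₃ + (-t₀) • e₂) (by
    rw [herm_add_left hF, herm_add_left hF, herm_smul_left hF, herm_smul_left hF, hf₁e, h3e, h2e,
      mul_zero, mul_zero, add_zero, add_zero])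
  set f := f₁ + s • e₃ + (-t₀) • e₂ + r • e with hfdef
  have hy : nu u f = nu u f₁ + s • e₂ + (-t₀) • e := by
    rw [hNf, map_add, map_add, map_smul, map_smul, he₃, he₂]
  have hNfe : h e f = 1 := by rw [← herm_conj hF, hfe, one_pow]
  have hB : h (nu u f) f = B := by
    have h23' : h e₂ e₃ = 0 := h23
    have hef₁ : h e f₁ = 1 := by rw [← herm_conj hF, hf₁e, one_pow]
    rw [hy, hfdef]
    simp only [herm_add_left hF, herm_add_right hF, herm_smul_left hF, herm_smul_right hF, hN3, hN2,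
      hNe, hf₁e, h22, h23', h2e, hee, h_symm hF h2e, h_symm hF h3e, hef₁, q_neg hF, ← hB₁]
    rw [hτ] at ht₀
    linear_combination ht₀
  have hD : dd q u f = dd q u f₀ + σ := by
    rw [← hd₁, dd, dd, hy, map_add, map_add, map_smul, map_smul, he₂, hne]
    have e1 : h (nu u (nu u f₁)) e₂ = 0 := by rw [hN2, hNe, neg_zero]
    have e2 : h e (nu u f₁) = 0 := h_symm hF (hNe _)
    simp only [herm_add_left hF, herm_add_right hF, herm_smul_left hF, herm_smul_right hF, hN2, hNe, e1,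
      e2, h_symm hF h2e, hee, h_zero_left hF, smul_zero, add_zero, mul_zero, neg_zero]
  refine ⟨f, hf, hfe, by rw [B_eq hF R hf, hB], ?_⟩
  rw [C_eq hF R hf, hB, hD]

/-- A vector whose invariants are generic. -/
theorem exists_v₀ (hn : 5 ≤ n) : ∃ v : Vs, h v v = 0 ∧ h v ((nu u ^ (n - 1)) y₀) = 1 ∧
    ∃ B C : F, h ((u : Matrix (Fin n) (Fin n) F) *ᵥ v) v = B ∧
      h ((u : Matrix (Fin n) (Fin n) F) *ᵥ ((u : Matrix (Fin n) (Fin n) F) *ᵥ v)) v = C ∧
      B + B ^ q ≠ 0 ∧ C ^ q * B ^ 2 + C * (B ^ q) ^ 2 ≠ 0 := by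
  obtain ⟨D₀, hD⟩ := exists_f hF R hn
  obtain ⟨δ, hδ, hδ0⟩ := exists_skew_ne hF
  obtain ⟨B, hB0, hB1⟩ : ∃ B : F, B + B ^ q ≠ 0 ∧ B ^ q ≠ B := by
    obtain ⟨τ, hτ⟩ := exists_trace_one hF
    by_cases h1 : τ ^ q = τ
    · refine ⟨τ + δ, by rw [q_add hF]; intro e; exact one_ne_zero (α := F) (by linear_combination e - hτ - hδ),
        fun e => ?_⟩
      rw [q_add hF, h1, q_skew_eq hF hδ] at e
      have h2 : (2 : F) * τ = 1 := by rw [h1] at hτ; linear_combination hτ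
      exact hδ0 (mul_left_cancel₀ (left_ne_zero_of_mul_eq_one h2) (by linear_combination -e))
    · exact ⟨τ, by rw [hτ]; exact one_ne_zero, h1⟩
  have hsq : B ^ 2 - (B ^ q) ^ 2 ≠ 0 := by
    rw [show B ^ 2 - (B ^ q) ^ 2 = (B - B ^ q) * (B + B ^ q) by ring]
    exact mul_ne_zero (sub_ne_zero.mpr (Ne.symm hB1)) hB0
  obtain ⟨f, hf, hfe, hfB, hfC⟩ := hD B 0 (by rw [q_zero hF, add_zero])
  obtain ⟨g, hg, hge, hgB, hgC⟩ := hD B δ hδ
  set Cf := 2 * B + (B + B ^ q) - (D₀ + 0) with hCf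
  set Cg := 2 * B + (B + B ^ q) - (D₀ + δ) with hCg
  have hC : Cg = Cf - δ := by rw [hCf, hCg]; ring
  by_cases hT : Cf ^ q * B ^ 2 + Cf * (B ^ q) ^ 2 = 0
  · refine ⟨g, hg, hge, B, Cg, hgB, hgC, hB0, ?_⟩
    rw [hC, q_sub hF, q_skew_eq hF hδ]
    intro e
    exact mul_ne_zero hδ0 hsq (by linear_combination e - hT)
  · exact ⟨f, hf, hfe, B, Cf, hfB, hfC, hB0, hT⟩

end Cfsg.Agent.Lib.UnitaryReg9
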