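import Cfsg.Agent.Lib.UnitaryReg9.Big

/-!
`SU_n(q)`, `n ≥ 5`, is generated by three conjugates of a regular unipotent element.
-/

set_option autoImplicit false
set_option linter.unusedSectionVars false

namespace Cfsg.Agent.Lib.UnitaryReg9

open Matrix Cfsg.Agent.Lib.Forms Cfsg.Agent.Lib.FormMax Cfsg.Agent.Lib.UnitaryMax

variable {F : Type*} [Field F] [Fintype F] {n q : ℕ}

local notation "Vs" => (Fin n → F)
local notation "h" => Cfsg.hermForm n F q

variable (hF : Fintype.card F = q ^ 2)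
include hF

omit hF in
theorem finrank_three {e f b : Vs} (hind : LinearIndependent F ![e, f, b]) :
    Module.finrank F (↥(Submodule.span F {e, f} ⊔ Submodule.span F {b})) = 3 := by
  have h1 := finrank_span_eq_card hind
  rw [← Submodule.span_union, show ({e, f} ∪ {b} : Set Vs) = Set.range ![e, f, b] by
    ext x; simp only [Matrix.range_cons, Matrix.range_empty, Set.union_empty, Set.mem_union, Set.mem_insert_iff,
      Set.mem_singleton_iff]; tauto]
  simpa using h1

/-- Vectors `e`, `f`, `r` giving a full nondegenerate three-space. -/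
theorem full_three {H : Subgroup (GL (Fin n) F)} (hH : H ≤ suGL n F q) {e f r : Vs} (he : e ∈ root q H)
    (hf : f ∈ root q H) (hef : h e f = 1) (hr : r ∈ root q H)
    (hne : h r e * h f r + h r f * h e r ≠ 0) :
    let b := r - h r f • e - h r e • f
    h e b = 0 ∧ h f b = 0 ∧ h b b ≠ 0 ∧
      Full q H (Submodule.span F {e, f} ⊔ Submodule.span F {b}) ∧
      Nondeg q (Submodule.span F {e, f} ⊔ Submodule.span F {b}) := by
  intro b
  have hfe : h f e = 1 := by rw [← herm_conj hF, hef, one_pow]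
  have heb : h e b = 0 := by
    simp only [b, h_sub_right hF, herm_smul_right hF, he.1, hef, herm_conj hF r e]; ring
  have hfb : h f b = 0 := by
    simp only [b, h_sub_right hF, herm_smul_right hF, hf.1, hfe, herm_conj hF r f]; ring
  have hbb : h b b = -(h r e * h f r + h r f * h e r) := by
    simp only [b, h_sub_left hF, h_sub_right hF, herm_smul_left hF, herm_smul_right hF, hr.1, he.1, hf.1,
      hef, hfe, herm_conj hF r e, herm_conj hF r f]
    ring
  have hperp : ∀ w ∈ Submodule.span F {e, f}, h w b = 0 := by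
    intro w hw
    obtain ⟨i, j, rfl⟩ := Submodule.mem_span_pair.mp hw
    rw [herm_add_left hF, herm_smul_left hF, herm_smul_left hF, heb, hfb, mul_zero, mul_zero, add_zero]
  have hP : Nondeg q (Submodule.span F {e, f}) := by
    intro v hv hv0
    obtain ⟨i, j, rfl⟩ := Submodule.mem_span_pair.mp hv
    by_cases hi : i = 0
    · refine ⟨e, Submodule.subset_span (Set.mem_insert _ _), ?_⟩
      rw [herm_add_left hF, herm_smul_left hF, herm_smul_left hF, he.1, hfe, mul_zero, zero_add, mul_one]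
      intro hj; exact hv0 (by rw [hi, hj, zero_smul, zero_smul, add_zero])
    · refine ⟨f, Submodule.subset_span (Set.mem_insert_of_mem _ rfl), ?_⟩
      rw [herm_add_left hF, herm_smul_left hF, herm_smul_left hF, hf.1, hef, mul_zero, add_zero, mul_one]
      exact hi
  have hbb0 : h b b ≠ 0 := by rw [hbb]; exact neg_ne_zero.mpr hne
  refine ⟨heb, hfb, hbb0, full_sup_aniso hF hH (full_plane hF hH he hf hef) hperp fun a' ha' haa => ?_,
    nondeg_sup_aniso hF hP hperp hbb0⟩
  obtain ⟨i', j', rfl⟩ := Submodule.mem_span_pair.mp ha'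
  rw [h_comb hF, he.1, hf.1, hef, hfe, hbb, neg_neg] at haa
  have hr' : h r f • e + h r e • f + b ∈ root q H := by
    convert hr using 1
    simp only [b]; abel
  refine move_plane hF hH he hf hef heb hfb ?_ ?_ hr'
  · rw [herm_conj hF, herm_conj hF]; intro e'; exact hne (by linear_combination e')
  · rw [herm_conj hF r e, herm_conj hF r f]; linear_combination haa

variable {u : GL (Fin n) F} {y₀ : Fin n → F} (R : Reg q u y₀)
include R

/-- The chain of a vector off the fixed hyperplane. -/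
theorem reg_of_pairing (hn : 1 ≤ n) {f : Vs} (hfe : h f ((nu u ^ (n - 1)) y₀) ≠ 0) : Reg q u f := by
  refine ⟨R.mem, R.pow_zero, fun h0 => hfe ?_⟩
  obtain ⟨c, hc⟩ := exists_coeff hF R f
  rw [hc] at h0
  have hc0 := coeff_zero hF R (c := c) h0 ⟨0, by omega⟩ (by simp; omega)
  rw [hc, ← hermSesq_apply hF, map_sum]
  refine Finset.sum_eq_zero fun i _ => ?_
  rw [hermSesq_apply, herm_smul_left hF]
  rcases Nat.eq_zero_or_pos (i : ℕ) with hi | hi
  · rw [show i = ⟨0, by omega⟩ from Fin.ext hi, hc0, zero_mul]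
  · obtain ⟨k, hk⟩ := Nat.exists_eq_add_of_le hi
    rw [hk, pow_add, pow_one, Module.End.mul_apply, h_nu_fixed hF R hn, mul_zero]

theorem indep_three (hn : 3 ≤ n) {f : Vs} (hfe : h f ((nu u ^ (n - 1)) y₀) ≠ 0) :
    LinearIndependent F ![f, (u : Matrix (Fin n) (Fin n) F) *ᵥ f,
      (u : Matrix (Fin n) (Fin n) F) *ᵥ ((u : Matrix (Fin n) (Fin n) F) *ᵥ f)] := by
  have h1 := (chain_indep hF (reg_of_pairing hF R (by omega) hfe)).comp
    (Fin.castLE hn) (Fin.castLE_injective hn)
  rw [Fintype.linearIndependent_iff] at h1 ⊢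
  intro c hc
  have h2 := h1 ![c 0 + c 1 + c 2, c 1 + 2 * c 2, c 2] (by
    rw [Fin.sum_univ_three] at hc ⊢
    simp only [Matrix.cons_val_zero, Matrix.cons_val_one, Matrix.cons_val] at hc ⊢
    rw [← hc, u_eq, u_eq, map_add]
    simp only [Function.comp_apply, Fin.val_castLE, Fin.val_zero, Fin.val_one, Fin.val_two, pow_zero,
      pow_one, Module.End.one_apply, pow_two, Module.End.mul_apply]
    module)
  have e0 := h2 0
  have e1 := h2 1
  have e2 := h2 2
  simp only [Matrix.cons_val_zero, Matrix.cons_val_one, Matrix.cons_val] at e0 e1 e2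
  intro i
  fin_cases i <;> simp only [Fin.zero_eta, Fin.mk_one, Fin.reduceFinMk]
  · linear_combination e0 - e1 + e2
  · linear_combination e1 - 2 * e2
  · exact e2

/-- The main construction. -/
theorem exists_three_gens (hn : 5 ≤ n) : ∃ g ∈ suGL n F q, ∃ g' ∈ suGL n F q,
    Subgroup.closure ({u, g * u * g⁻¹, g' * u * g'⁻¹} : Set (GL (Fin n) F)) = suGL n F q := by
  classical
  have hu := R.mem
  set e := (nu u ^ (n - 1)) y₀ with he
  have hee : h e e = 0 := hEE hF R (by omega)
  have hue : (u : Matrix (Fin n) (Fin n) F) *ᵥ e = e := u_fixed hF R (by omega)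
  have hue' : ∀ x, h ((u : Matrix (Fin n) (Fin n) F) *ᵥ x) e = h x e := fun x => by
    conv_lhs => rw [← hue]
    exact apply_K hu x e
  obtain ⟨δ, hδ, hδ0⟩ := exists_skew_ne hF
  obtain ⟨v₀, hv₀, hv₀e, γ, C, hγ, hC, hγtr, hT⟩ := exists_v₀ hF R hn
  have hγ0 : γ ≠ 0 := fun e' => hγtr (by rw [e', q_zero hF, add_zero])
  have hC0 : C ≠ 0 := fun e' => hT (by rw [e', q_zero hF]; ring)
  have hγ' : γ ^ q ≠ 0 := pow_ne_zero _ hγ0
  obtain ⟨D₀, hD⟩ := exists_f hF R hn
  -- the scalars `c`, `B`
  obtain ⟨c, B, hc, hc0, hBtr, hscal⟩ : ∃ c B : F, c + c ^ q = 0 ∧ c ≠ 0 ∧ B + B ^ q ≠ 0 ∧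
      (q = 2 ∨ (q ≠ 2 ∧ 1 + c * (γ * γ ^ q) * B ≠ 0 ∧
        γ * γ ^ q * B = γ / γ ^ q * (1 + c * (γ * γ ^ q) * B) * C ^ q ∧
        Gen q (γ / γ ^ q * (1 + c * (γ * γ ^ q) * B) * (γ / γ ^ q * (1 + c * (γ * γ ^ q) * B)) ^ q))) := by
    by_cases hq : q = 2
    · exact ⟨δ, γ, hδ, hδ0, hγtr, Or.inl hq⟩
    have hq3 : 3 ≤ q := by have := two_le_of_card_sq hF; omega
    have hζ : δ * C ^ q * γ / γ ^ q ≠ 0 :=
      div_ne_zero (mul_ne_zero (mul_ne_zero hδ0 (pow_ne_zero _ hC0)) hγ0) hγ'
    obtain ⟨t, ht, ht0, hZ, hgen⟩ := exists_gen hF hq3 hζ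
    set Z := t * (δ * C ^ q * γ / γ ^ q) with hZdef
    have hcs : t * δ + (t * δ) ^ q = 0 := q_real_mul hF ht hδ
    have hY : 1 + t * δ * (γ * γ ^ q) * (C ^ q / ((γ ^ q) ^ 2 * (1 - Z))) = (1 - Z)⁻¹ := by
      field_simp
      rw [hZdef]
      field_simp
      ring
    refine ⟨t * δ, C ^ q / ((γ ^ q) ^ 2 * (1 - Z)), hcs, mul_ne_zero ht0 hδ0, ?_, Or.inr ⟨hq, ?_, ?_, ?_⟩⟩
    · have hZq : (1 - Z) ^ q ≠ 0 := pow_ne_zero _ hZ
      have e1 : (1 - Z) ^ q = 1 + t * δ * C * γ ^ q / γ := by
        rw [q_sub hF, one_pow, hZdef]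
        simp only [mul_pow, div_pow, ht, q_skew_eq hF hδ, pow_q_pow_q hF]
        ring
      have e0 : ((γ ^ q) ^ 2) ^ q = γ ^ 2 := by
        rw [sq, mul_pow, pow_q_pow_q hF, sq]
      rw [div_pow, mul_pow, pow_q_pow_q hF, e0]
      intro e'
      refine hT ?_
      have hden : (γ ^ q) ^ 2 * (1 - Z) ≠ 0 := mul_ne_zero (pow_ne_zero _ hγ') hZ
      have hden' : γ ^ 2 * (1 - Z) ^ q ≠ 0 := mul_ne_zero (pow_ne_zero _ hγ0) hZq
      rw [div_add_div _ _ hden hden', div_eq_zero_iff] at e'
      have e2 := e'.resolve_right (mul_ne_zero hden hden')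
      rw [e1, hZdef] at e2
      field_simp at e2
      linear_combination e2
    · rw [hY]; exact inv_ne_zero hZ
    · rw [hY]; field_simp
    · rw [hY]
      convert hgen using 1
      rw [mul_pow, div_pow, pow_q_pow_q hF, inv_pow]
      field_simp
  -- the plane partner
  obtain ⟨f, hff, hfe, hfB, hfC⟩ := hD B 0 (by rw [q_zero hF, add_zero])
  obtain ⟨f', hf'f, hf'e, hf'B, hfC', hqfix⟩ : ∃ f' : Vs, h f' f' = 0 ∧ h f' e = 1 ∧
      h ((u : Matrix (Fin n) (Fin n) F) *ᵥ f') f' = B ∧ True ∧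
      (q = 2 → h ((u : Matrix (Fin n) (Fin n) F) *ᵥ ((u : Matrix (Fin n) (Fin n) F) *ᵥ f')) f' ≠ 0) := by
    by_cases hC2 : q = 2 ∧ h ((u : Matrix (Fin n) (Fin n) F) *ᵥ ((u : Matrix (Fin n) (Fin n) F) *ᵥ f)) f = 0
    · obtain ⟨g, hgf, hge, hgB, hgC⟩ := hD B δ hδ
      refine ⟨g, hgf, hge, hgB, trivial, fun _ e' => hδ0 ?_⟩
      rw [hgC] at e'
      have := hC2.2
      rw [hfC] at this
      linear_combination this - e'
    · exact ⟨f, hff, hfe, hfB, trivial, fun h2 e' => hC2 ⟨h2, e'⟩⟩
  clear hfC hfB hfe hff hfC'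
  clear f
  rename' f' => f, hf'f => hff, hf'e => hfe, hf'B => hfB
  have hef : h e f = 1 := by rw [← herm_conj hF, hfe, one_pow]
  set uf := (u : Matrix (Fin n) (Fin n) F) *ᵥ f with huf
  have hufe : h uf e = 1 := by rw [huf, hue', hfe]
  set b := uf - B • e - f with hb
  have heb : h e b = 0 := by
    simp only [hb, h_sub_right hF, herm_smul_right hF, hee, hef]
    rw [← herm_conj hF uf e, hufe, one_pow]; ring
  have hufuf : h uf uf = 0 := by rw [huf, apply_K hu, hff]
  have hfb : h f b = 0 := by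
    simp only [hb, h_sub_right hF, herm_smul_right hF, hff, hfe]
    rw [← herm_conj hF uf f, hfB]; ring
  have hbb : h b b ≠ 0 := by
    have e1 : h b b = -(B + B ^ q) := by
      have he1 : h b b = h uf b := by
        conv_lhs => arg 4; rw [hb]
        rw [h_sub_left hF, h_sub_left hF, herm_smul_left hF, heb, hfb, mul_zero, sub_zero, sub_zero]
      rw [he1, hb, h_sub_right hF, h_sub_right hF, herm_smul_right hF, hufuf, hufe, hfB]
      ring
    rw [e1]; exact neg_ne_zero.mpr hBtr
  -- an anisotropic vector orthogonal to `e`, `f`, `uf`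
  obtain ⟨z, hzz, hze, hzf, hzu⟩ : ∃ z, h z z ≠ 0 ∧ h e z = 0 ∧ h f z = 0 ∧ h uf z = 0 := by
    obtain ⟨Z, -, hZdim, hZ⟩ := exists_perp_pair (W := (⊤ : Submodule F Vs)) hF e f
    obtain ⟨Z', hZ'Z, hZ'dim, hZ'⟩ := exists_perp_pair (W := Z) hF b b
    rw [finrank_top, Module.finrank_fin_fun] at hZdim
    have hfe' : h f e = 1 := hfe
    have hmem : ∀ v : Vs, v ∈ Z' ↔ h v e = 0 ∧ h v f = 0 ∧ h v b = 0 := by
      intro v
      constructor
      · intro hv
        have hvZ := hZ'Z hv
        exact ⟨((hZ v trivial).1 hvZ).1, ((hZ v trivial).1 hvZ).2, ((hZ' v hvZ).1 hv).1⟩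
      · rintro ⟨h1, h2, h3⟩
        exact (hZ' v ((hZ v trivial).2 ⟨h1, h2⟩)).2 ⟨h3, h3⟩
    have hnd : Nondeg q Z' := by
      intro x hx hx0
      obtain ⟨y, hxy⟩ := exists_h_ne hF hx0
      obtain ⟨hxe, hxf, hxb⟩ := (hmem x).1 hx
      refine ⟨y - h y f • e - h y e • f - (h y b / h b b) • b, (hmem _).2 ⟨?_, ?_, ?_⟩, ?_⟩
      · simp only [h_sub_left hF, herm_smul_left hF, hee, hfe', h_symm hF heb]; ring
      · simp only [h_sub_left hF, herm_smul_left hF, hef, hff, h_symm hF hfb]; ring
      · simp only [h_sub_left hF, herm_smul_left hF, heb, hfb]; field_simp; ring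
      · simp only [h_sub_right hF, herm_smul_right hF, hxe, hxf, hxb]
        simpa using hxy
    obtain ⟨z, hz, hzz⟩ := exists_aniso hF hnd (fun e' => by rw [e', finrank_bot] at hZ'dim; omega)
    obtain ⟨h1, h2, h3⟩ := (hmem z).1 hz
    refine ⟨z, hzz, h_symm hF h1, h_symm hF h2, ?_⟩
    have h4 := h_symm hF h3
    rw [hb, h_sub_left hF, h_sub_left hF, herm_smul_left hF, h_symm hF h1, h_symm hF h2, mul_zero,
      sub_zero, sub_zero] at h4
    exact h4
  have hind3 : LinearIndependent F ![e, f, b] := by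
    rw [Fintype.linearIndependent_iff]
    intro k hk
    rw [Fin.sum_univ_three] at hk
    simp only [Matrix.cons_val_zero, Matrix.cons_val_one, Matrix.cons_val] at hk
    have h1 := congrArg (fun v => h v e) hk
    have h2 := congrArg (fun v => h v f) hk
    have h3 := congrArg (fun v => h v b) hk
    simp only [herm_add_left hF, herm_smul_left hF, hee, hfe, hef, hff, h_symm hF heb, h_symm hF hfb, heb,
      hfb, h_zero_left hF, mul_zero, mul_one, add_zero, zero_add] at h1 h2 h3
    intro i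
    fin_cases i <;> simp only [Fin.zero_eta, Fin.mk_one, Fin.reduceFinMk]
    · exact h2
    · exact h1
    · exact (mul_eq_zero.mp h3).resolve_right hbb
  -- the third conjugator
  set v := γ • f with hv
  set Xv := γ • uf + (c * (γ * γ ^ q) * B * γ) • f with hXv
  obtain ⟨g', hg', hmap1, hmap2, hmap3⟩ : ∃ g' ∈ suGL n F q,
      (g' : Matrix (Fin n) (Fin n) F) *ᵥ v₀ = e ∧
      (g' : Matrix (Fin n) (Fin n) F) *ᵥ ((u : Matrix (Fin n) (Fin n) F) *ᵥ v₀) = v ∧
      (q ≠ 2 → (g' : Matrix (Fin n) (Fin n) F) *ᵥ (((u⁻¹ : GL (Fin n) F) : Matrix (Fin n) (Fin n) F) *ᵥ v₀)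
        = (γ / γ ^ q * (1 + c * (γ * γ ^ q) * B))⁻¹ • Xv) := by
    have hfree := indep_three hF R (by omega) (f := v₀) (by rw [hv₀e]; exact one_ne_zero)
    have hgij : h ((u : Matrix (Fin n) (Fin n) F) *ᵥ v₀) ((u : Matrix (Fin n) (Fin n) F) *ᵥ v₀) = 0 := by
      rw [apply_K hu, hv₀]
    have hvv : h v v = 0 := by rw [hv, herm_smul_left hF, herm_smul_right hF, hff, mul_zero, mul_zero]
    have hve : h v e = γ := by rw [hv, herm_smul_left hF, hfe, mul_one]
    rcases hscal with hq2 | ⟨-, hY, hscal, -⟩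
    · obtain ⟨g', hg', hmap⟩ := exists_su_map hF ![v₀, (u : Matrix (Fin n) (Fin n) F) *ᵥ v₀] ![e, v]
        (by
          have := hfree.comp (Fin.castLE (by omega : 2 ≤ 3)) (Fin.castLE_injective _)
          convert this using 1
          funext i; fin_cases i <;> rfl)
        (by
          rw [LinearIndependent.pair_iff]
          intro a a' hab
          have h1 := congrArg (fun x => h x e) hab
          have h2 := congrArg (fun x => h x f) hab
          simp only [hv, herm_add_left hF, herm_smul_left hF, hee, hfe, hef, hff, h_zero_left hF, mul_zero,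
            mul_one, add_zero, zero_add] at h1 h2
          exact ⟨h2, (mul_eq_zero.mp h1).resolve_right hγ0⟩)
        (by
          intro i j
          fin_cases i <;> fin_cases j <;>
            simp [hv₀, hgij, hee, hvv, hγ, hve]
          rw [← herm_conj hF _ v₀, ← herm_conj hF v e, hγ, hve])
        hzz (by
          intro i; fin_cases i <;> simp [hze, hv, herm_smul_left hF, hzf])
      exact ⟨g', hg', hmap 0, hmap 1, fun hne => absurd hq2 hne⟩
    set κ := γ / γ ^ q * (1 + c * (γ * γ ^ q) * B) with hκ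
    have hκ0 : κ ≠ 0 := mul_ne_zero (div_ne_zero hγ0 hγ') hY
    have hX1 : h (κ⁻¹ • Xv) e = γ ^ q := by
      rw [hXv, herm_smul_left hF, herm_add_left hF, herm_smul_left hF, herm_smul_left hF, hufe, hfe,
        inv_mul_eq_iff_eq_mul₀ hκ0, hκ]
      field_simp
    have hX2 : h (κ⁻¹ • Xv) v = C ^ q := by
      rw [hXv, hv, herm_smul_left hF, herm_add_left hF, herm_smul_left hF, herm_smul_left hF,
        herm_smul_right hF, herm_smul_right hF, hff, hfB, mul_zero, mul_zero, add_zero,
        inv_mul_eq_iff_eq_mul₀ hκ0]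
      linear_combination hscal
    have hX0 : h (κ⁻¹ • Xv) (κ⁻¹ • Xv) = 0 := by
      rw [herm_smul_left hF, herm_smul_right hF, hXv]
      simp only [herm_add_left hF, herm_add_right hF, herm_smul_left hF, herm_smul_right hF, hufuf, hff,
        hfB]
      rw [← herm_conj hF uf f, hfB]
      simp only [mul_pow, pow_q_pow_q hF, q_skew_eq hF hc, mul_zero, add_zero, zero_add]
      ring
    set u0 := ((u⁻¹ : GL (Fin n) F) : Matrix (Fin n) (Fin n) F) *ᵥ v₀ with hu0
    have hu0' : (u : Matrix (Fin n) (Fin n) F) *ᵥ u0 = v₀ := mulVec_inv_mulVec u v₀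
    have g00 : h u0 u0 = 0 := by rw [← apply_K hu, hu0', hv₀]
    have g01 : h u0 v₀ = γ ^ q := by rw [← apply_K hu, hu0', ← herm_conj hF, hγ]
    have g02 : h u0 ((u : Matrix (Fin n) (Fin n) F) *ᵥ v₀) = C ^ q := by
      rw [← apply_K hu, hu0', ← herm_conj hF, hC]
    obtain ⟨g', hg', hmap⟩ := exists_su_map hF ![u0, v₀, (u : Matrix (Fin n) (Fin n) F) *ᵥ v₀]
      ![κ⁻¹ • Xv, e, v]
      (by
        have hk : ∀ x y : Vs, (u : Matrix (Fin n) (Fin n) F) *ᵥ x = (u : Matrix (Fin n) (Fin n) F) *ᵥ y →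
            x = y := fun x y e' => by
          have := congrArg (((u⁻¹ : GL (Fin n) F) : Matrix (Fin n) (Fin n) F) *ᵥ ·) e'
          simpa [inv_mulVec_mulVec] using this
        refine LinearIndependent.of_comp (Matrix.mulVecLin (u : Matrix (Fin n) (Fin n) F)) ?_
        convert hfree using 1
        funext i; fin_cases i <;> simp [hu0'])
      (by
        rw [Fintype.linearIndependent_iff]
        intro k hk
        rw [Fin.sum_univ_three] at hk
        simp only [Matrix.cons_val_zero, Matrix.cons_val_one, Matrix.cons_val] at hk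
        have h3 := congrArg (fun x => h x b) hk
        have hub : h uf b = h b b := by
          conv_rhs => arg 4; rw [hb]
          rw [h_sub_left hF, h_sub_left hF, herm_smul_left hF, heb, hfb, mul_zero, sub_zero, sub_zero]
        simp only [hXv, hv, herm_add_left hF, herm_smul_left hF, heb, hfb, hub, h_zero_left hF, mul_zero,
          add_zero] at h3
        have hk0 : k 0 = 0 := by simpa [hκ0, hγ0, hbb] using h3
        rw [hk0, zero_smul, zero_add] at hk
        have h1 := congrArg (fun x => h x e) hk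
        have h2 := congrArg (fun x => h x f) hk
        simp only [hv, herm_add_left hF, herm_smul_left hF, hee, hfe, hef, hff, h_zero_left hF, mul_zero,
          mul_one, add_zero, zero_add] at h1 h2
        intro i
        fin_cases i <;> simp only [Fin.zero_eta, Fin.mk_one, Fin.reduceFinMk]
        · exact hk0
        · exact h2
        · exact (mul_eq_zero.mp h1).resolve_right hγ0)
      (by
        have s1 := herm_conj hF u0 v₀
        have s2 := herm_conj hF u0 ((u : Matrix (Fin n) (Fin n) F) *ᵥ v₀)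
        have s3 := herm_conj hF ((u : Matrix (Fin n) (Fin n) F) *ᵥ v₀) v₀
        have t1 := herm_conj hF (κ⁻¹ • Xv) e
        have t2 := herm_conj hF (κ⁻¹ • Xv) v
        have t3 := herm_conj hF v e
        rw [g01] at s1
        rw [g02] at s2
        rw [hγ] at s3
        rw [hX1] at t1
        rw [hX2] at t2
        rw [hve] at t3
        intro i j
        fin_cases i <;> fin_cases j <;>
          simp [g00, g01, g02, hv₀, hgij, hγ, hee, hvv, hve, hX0, hX1, hX2, ← s1, ← s2, ← s3, ← t1, ← t2, ← t3])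
      hzz (by
        intro i
        fin_cases i <;> simp [hXv, hv, hze, herm_smul_left hF, herm_add_left hF, hzf, hzu])
    exact ⟨g', hg', hmap 1, hmap 2, fun _ => hmap 0⟩
  obtain ⟨g, hg, hgu⟩ := exists_conj_T_mul hF R (by omega) hc hee
  refine ⟨g, hg, g', hg', ?_⟩
  set H := Subgroup.closure ({u, g * u * g⁻¹, g' * u * g'⁻¹} : Set (GL (Fin n) F)) with hHdef
  have hHle : H ≤ suGL n F q := by
    refine (Subgroup.closure_le _).mpr ?_
    rintro x (rfl | rfl | rfl)
    · exact hu
    · exact Subgroup.mul_mem _ (Subgroup.mul_mem _ hg hu) (Subgroup.inv_mem _ hg)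
    · exact Subgroup.mul_mem _ (Subgroup.mul_mem _ hg' hu) (Subgroup.inv_mem _ hg')
  have huH : u ∈ H := Subgroup.subset_closure (Set.mem_insert _ _)
  have hg'H : g' * u * g'⁻¹ ∈ H := Subgroup.subset_closure (by simp)
  set u'' := g' * u * g'⁻¹ with hu''
  have hu''e : (u'' : Matrix (Fin n) (Fin n) F) *ᵥ e = v := by
    rw [hu'', Units.val_mul, Units.val_mul, ← mulVec_mulVec, ← mulVec_mulVec]
    conv_lhs => rw [← hmap1]
    rw [inv_mulVec_mulVec, hmap2]
  have hTe : T (q := q) e c hee ∈ H := by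
    have h1 : g * u * g⁻¹ ∈ H := Subgroup.subset_closure (by simp)
    rw [hgu] at h1
    simpa using H.mul_mem h1 (H.inv_mem huH)
  -- full root group at `e`
  have herootH : e ∈ root q H := by
    rcases hscal with hq2 | ⟨hqne, hY, hscal, hgen⟩
    · exact root_of_scaling hF hHle hc hc0 hTe H.one_mem (κ := 1)
        (by rw [Units.val_one, one_mulVec, one_smul]) (gen_two hq2)
    set κ := γ / γ ^ q * (1 + c * (γ * γ ^ q) * B) with hκ
    have hκ0 : κ ≠ 0 := mul_ne_zero (div_ne_zero hγ0 hγ') hY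
    have hTv := H.mul_mem (H.mul_mem hg'H hTe) (H.inv_mem hg'H)
    rw [conj_T (hHle hg'H) e c hee] at hTv
    refine root_of_scaling hF hHle hc hc0 hTe (κ := κ)
      (H.mul_mem (H.mul_mem (H.mul_mem hg'H hTv) huH) hg'H) ?_ hgen
    simp only [Units.val_mul, ← mulVec_mulVec, T_mulVec, hu''e]
    have hh : h ((u : Matrix (Fin n) (Fin n) F) *ᵥ v) v = γ * γ ^ q * B := by
      rw [hv, mulVec_smul, herm_smul_left hF, herm_smul_right hF, ← huf, hfB]; ring
    have hXe : (u : Matrix (Fin n) (Fin n) F) *ᵥ v + (c * h ((u : Matrix (Fin n) (Fin n) F) *ᵥ v) v) • v = Xv := by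
      rw [hh, hXv, hv, mulVec_smul, ← huf, smul_smul]
      congr 1
      rw [show c * (γ * γ ^ q * B) * γ = c * (γ * γ ^ q) * B * γ by ring]
    rw [hXe, show Xv = κ • (κ⁻¹ • Xv) by rw [smul_inv_smul₀ hκ0],
      ← hmap3 hqne,
      mulVec_smul, hu'', Units.val_mul, Units.val_mul, ← mulVec_mulVec, ← mulVec_mulVec,
      inv_mulVec_mulVec, mulVec_inv_mulVec, hmap1]
  have hvroot : v ∈ root q H := by rw [← hu''e]; exact root_map hHle hg'H herootH
  have hfroot : f ∈ root q H := by
    have := root_smul hF hvroot γ⁻¹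
    rwa [hv, inv_smul_smul₀ hγ0] at this
  have hufroot : uf ∈ root q H := root_map hHle huH hfroot
  have hne : h uf e * h f uf + h uf f * h e uf ≠ 0 := by
    rw [← herm_conj hF uf f, ← herm_conj hF uf e, hufe, hfB, one_pow]
    intro e'; exact hBtr (by linear_combination e')
  obtain ⟨-, -, hbb', hfull, hnd⟩ := full_three hF hHle herootH hfroot hef hufroot hne
  have hbeq : uf - h uf f • e - h uf e • f = b := by rw [hfB, hufe, one_smul, hb]
  rw [hbeq] at hbb' hfull hnd
  set W := Submodule.span F {e, f} ⊔ Submodule.span F {b} with hW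
  have hW3 : Module.finrank F W = 3 := finrank_three hind3
  have heW : e ∈ W := Submodule.mem_sup_left (Submodule.subset_span (Set.mem_insert _ _))
  have he0 : e ≠ 0 := R.pow_ne
  have hfix : ∀ x : Vs, (u : Matrix (Fin n) (Fin n) F) *ᵥ x = x → ∃ t : F, x = t • e := fun x hx =>
    fixed_line hF R (by omega) x (by rw [nu_apply, hx, sub_self])
  have hnil : ∀ x : Vs, ∃ k : ℕ, ((fun y => (u : Matrix (Fin n) (Fin n) F) *ᵥ y - y))^[k] x = 0 :=
    fun x => ⟨n, by rw [nu_iterate]; exact R.pow_zero x⟩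
  have hspan : ∀ x : Vs, x ≠ 0 → ∃ r ∈ root q H, h r x ≠ 0 :=
    orbit_spans hF R (by omega) hHle huH hfroot (by rw [hfe]; exact one_ne_zero)
  by_cases hq3 : 3 ≤ q
  · exact eq_suGL_of_full hF hHle (by omega) (by omega) huH hue hfix hnil hspan W hfull hnd heW he0 hee
      (Or.inl ⟨hq3, by omega⟩)
  -- `q = 2`: one more step through a singular vector
  have hq2 : q = 2 := by have := two_le_of_card_sq hF; omega
  set C' := h ((u : Matrix (Fin n) (Fin n) F) *ᵥ uf) f with hC'
  have hC'0 : C' ≠ 0 := hqfix hq2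
  have hnorm1 : ∀ x : F, x ≠ 0 → x * x ^ q = 1 := by
    intro x hx
    have h1 := FiniteField.pow_card_sub_one_eq_one x hx
    rw [hF, hq2] at h1
    rw [hq2, ← pow_succ']
    exact h1
  have htwo : (2 : F) = 0 := by
    obtain ⟨p, k, hp, hpF, hk, hqp⟩ := exists_prime_power hF
    have hp2 : p = 2 := by
      rw [hq2] at hqp
      have h1 : p ∣ 2 := hqp ▸ dvd_pow_self p (by omega)
      exact ((Nat.prime_dvd_prime_iff_eq hp Nat.prime_two).mp h1)
    subst hp2
    exact CharP.cast_eq_zero F 2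
  set r := (u : Matrix (Fin n) (Fin n) F) *ᵥ uf with hr
  obtain ⟨a, ha, hd⟩ := exists_decomp hF hnd r
  set d := r - a with hddef
  have hbW : b ∈ W := Submodule.mem_sup_right (Submodule.mem_span_singleton_self b)
  have hfW : f ∈ W := Submodule.mem_sup_left (Submodule.subset_span (Set.mem_insert_of_mem _ rfl))
  have hre : h r e = 1 := by rw [hr, hue', hufe]
  have hrb : h r b = B - B ^ q - C' := by
    rw [hb, h_sub_right hF, h_sub_right hF, herm_smul_right hF, hre, ← hC', hr, huf, apply_K hu, hfB]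
    ring
  have hbb1 : h b b = 1 := by
    have h2 := hnorm1 (h b b) hbb
    rw [herm_conj hF] at h2
    have h3 : (h b b - 1) * (h b b - 1) = 0 := by linear_combination h2 - (h b b - 1) * htwo
    exact sub_eq_zero.mp (mul_self_eq_zero.mp h3)
  have haval : ∀ w ∈ W, h a w = h r w := fun w hw => by
    have h1 := h_symm hF (hd w hw)
    rw [hddef, h_sub_left hF, sub_eq_zero] at h1
    exact h1.symm
  obtain ⟨i, j, l, haeq⟩ : ∃ i j l : F, a = i • e + j • f + l • b := by
    obtain ⟨x, hx, y, hy, rfl⟩ := Submodule.mem_sup.mp ha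
    obtain ⟨i, j, rfl⟩ := Submodule.mem_span_pair.mp hx
    obtain ⟨l, rfl⟩ := Submodule.mem_span_singleton.mp hy
    exact ⟨i, j, l, rfl⟩
  have hj : j = 1 := by
    rw [← hre, ← haval e heW, haeq]
    simp [herm_add_left hF, herm_smul_left hF, hee, hfe, h_symm hF heb]
  have hi : i = C' := by
    rw [hC', ← haval f hfW, haeq]
    simp [herm_add_left hF, herm_smul_left hF, hef, hff, h_symm hF hfb]
  have hl : l = B - B ^ q - C' := by
    rw [← hrb, ← haval b hbW, haeq]
    simp [herm_add_left hF, herm_smul_left hF, heb, hfb, hbb1]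
  have haa : h a a = 0 := by
    rw [haval a ha, haeq]
    simp only [herm_add_right hF, herm_smul_right hF, hre, ← hC', hrb, hi, hj, hl, one_pow]
    have hB1 : B + B ^ q = 1 := by
      have h2 := hnorm1 (B + B ^ q) hBtr
      rw [q_trace hF] at h2
      have h3 : (B + B ^ q - 1) * (B + B ^ q - 1) = 0 := by
        linear_combination h2 - (B + B ^ q - 1) * htwo
      exact sub_eq_zero.mp (mul_self_eq_zero.mp h3)
    have hCn := hnorm1 C' hC'0
    simp only [q_sub hF, pow_q_pow_q hF]
    rw [eq_sub_of_add_eq' hB1]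
    linear_combination hCn + (C' ^ q - 2 * B ^ 2 + 2 * B - B * C' ^ q + B * C') * htwo
  have ha0 : a ≠ 0 := fun e' => by
    have h1 := haval e heW
    rw [e', h_zero_left hF, hre] at h1
    exact zero_ne_one h1
  have hd0 : d ≠ 0 := by
    intro e'
    have hrW : r ∈ W := sub_eq_zero.mp e' ▸ ha
    have hufW : uf ∈ W := by
      rw [show uf = b + (B • e + f) by rw [hb]; abel]
      exact W.add_mem hbW (W.add_mem (W.smul_mem _ heW) hfW)
    have hst : ∀ x ∈ W, (u : Matrix (Fin n) (Fin n) F) *ᵥ x ∈ W := by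
      intro x hx
      obtain ⟨x₁, hx₁, x₂, hx₂, rfl⟩ := Submodule.mem_sup.mp hx
      obtain ⟨i, j, rfl⟩ := Submodule.mem_span_pair.mp hx₁
      obtain ⟨l, rfl⟩ := Submodule.mem_span_singleton.mp hx₂
      rw [hb, mulVec_add, mulVec_add, mulVec_smul, mulVec_smul, mulVec_smul, mulVec_sub, mulVec_sub,
        mulVec_smul, hue, ← huf, ← hr]
      exact W.add_mem (W.add_mem (W.smul_mem _ heW) (W.smul_mem _ hufW))
        (W.smul_mem _ (W.sub_mem (W.sub_mem hrW (W.smul_mem _ heW)) hufW))
    have hall : ∀ k : ℕ, (nu u ^ k) f ∈ W := by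
      intro k
      induction k with
      | zero => exact hfW
      | succ k ih =>
        rw [pow_succ', Module.End.mul_apply, nu_apply]
        exact W.sub_mem (hst _ ih) ih
    have hli := chain_indep hF (reg_of_pairing hF R (by omega) (f := f) (by rw [hfe]; exact one_ne_zero))
    have h6 : Module.finrank F (Submodule.span F (Set.range fun m : Fin n => (nu u ^ (m : ℕ)) f)) ≤
        Module.finrank F W :=
      Submodule.finrank_mono (Submodule.span_le.mpr (by rintro x ⟨m, rfl⟩; exact hall m))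
    rw [finrank_span_eq_card hli, hW3, Fintype.card_fin] at h6
    omega
  have hdd : h d d = 0 := by
    have h1 : h r r = 0 := by rw [hr, apply_K hu, hufuf]
    rw [show r = a + d by rw [hddef]; abel, herm_add_left hF, herm_add_right hF, herm_add_right hF, haa,
      hd a ha, h_symm hF (hd a ha)] at h1
    linear_combination h1
  obtain ⟨W', hle, hfull', hnd', hlt⟩ := grow_singular hF hHle hfull hnd (by omega) ha ha0 haa hd hdd hd0
    (by rw [hddef, add_sub_cancel]; exact root_map hHle huH hufroot) hspan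
  exact eq_suGL_of_full hF hHle (by omega) (by omega) huH hue hfix hnil hspan W' hfull' hnd' (hle heW) he0
    hee (Or.inr (by omega))

end Cfsg.Agent.Lib.UnitaryReg9
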