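import Cfsg.Agent.Lib.UnitaryReg9.Regular
import Cfsg.Agent.Lib.Forms.UnitaryFrames

/-!
Existence of regular unipotent elements in special unitary groups of odd dimension.
-/

set_option autoImplicit false
set_option linter.unusedSectionVars false

namespace Cfsg.Agent.Lib.UnitaryReg9

open Matrix Cfsg.Agent.Lib.Forms Cfsg.Agent.Lib.FormMax Cfsg.Agent.Lib.UnitaryMax

variable {F : Type*} [Field F] [Fintype F] {q : ℕ}

theorem det_one_add_nilpotent {n : ℕ} {N : Matrix (Fin n) (Fin n) F} (hN : IsNilpotent N) :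
    (1 + N).det = 1 := by
  have h1 := Matrix.isNilpotent_charpoly_sub_pow_of_isNilpotent hN.neg
  rw [isNilpotent_iff_eq_zero, sub_eq_zero] at h1
  have h2 := Matrix.eval_charpoly (-N) 1
  rw [h1, Polynomial.eval_pow, Polynomial.eval_X, one_pow, map_one, sub_neg_eq_add] at h2
  exact h2.symm

variable (hF : Fintype.card F = q ^ 2)
include hF

theorem exists_reg_step {m : ℕ} (hm : 1 ≤ m) {u₀ : GL (Fin m) F} {y₁ : Fin m → F} (R : Reg q u₀ y₁) :
    ∃ (u : GL (Fin (m + 2)) F) (y : Fin (m + 2) → F), Reg q u y := by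
  obtain ⟨θ, hθ⟩ := exists_alpha hF
  obtain ⟨t, ht⟩ := exists_trace hF (r := (-1 : F)) (by rw [q_neg hF, one_pow])
  let e₂ : Fin 2 → F := ![1, θ]
  let f₂ : Fin 2 → F := ![1, 0] + t • e₂
  have hee : Cfsg.hermForm 2 F q e₂ e₂ = 0 := by
    simp only [e₂, Cfsg.hermForm, Fin.sum_univ_two, Matrix.cons_val_zero, Matrix.cons_val_one, one_pow]
    linear_combination hθ
  have h10 : Cfsg.hermForm 2 F q e₂ ![1, 0] = 1 := by
    simp [e₂, Cfsg.hermForm, Fin.sum_univ_two, q_zero hF]
  have h01 : Cfsg.hermForm 2 F q ![1, 0] e₂ = 1 := by rw [← herm_conj hF, h10, one_pow]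
  have h11 : Cfsg.hermForm 2 F q ![1, 0] ![1, 0] = 1 := by
    simp [Cfsg.hermForm, Fin.sum_univ_two, q_zero hF]
  have hef : Cfsg.hermForm 2 F q e₂ f₂ = 1 := by
    simp only [f₂, herm_add_right hF, herm_smul_right hF, hee, h10]; ring
  have hfe : Cfsg.hermForm 2 F q f₂ e₂ = 1 := by rw [← herm_conj hF, hef, one_pow]
  have hff : Cfsg.hermForm 2 F q f₂ f₂ = 0 := by
    simp only [f₂, herm_add_left hF, herm_add_right hF, herm_smul_left hF, herm_smul_right hF, hee, h10,
      h01, h11]
    linear_combination ht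
  have hspan : LinearIndependent F ![e₂, f₂] := by
    rw [LinearIndependent.pair_iff]
    intro a b hab
    have h1 := congrArg (fun v => Cfsg.hermForm 2 F q v e₂) hab
    have h2 := congrArg (fun v => Cfsg.hermForm 2 F q v f₂) hab
    simp only [herm_add_left hF, herm_smul_left hF, hee, hfe, hef, hff, h_zero_left hF, mul_one, mul_zero,
      add_zero, zero_add] at h1 h2
    exact ⟨h2, h1⟩
  have htop := hspan.span_eq_top_of_card_eq_finrank' (by simp)
  -- coordinates
  let P : (Fin m → F) → F → F → (Fin (m + 2) → F) := fun z i j => Fin.append z (i • e₂ + j • f₂)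
  have hP : ∀ v, ∃ z i j, v = P z i j := by
    intro v
    have h2 : (fun i => v (Fin.natAdd m i)) ∈ Submodule.span F (Set.range ![e₂, f₂]) :=
      htop ▸ Submodule.mem_top
    rw [Matrix.range_cons, Matrix.range_cons, Matrix.range_empty, Set.union_empty, Set.singleton_union,
      Submodule.mem_span_pair] at h2
    obtain ⟨i, j, hij⟩ := h2
    refine ⟨fun l => v (Fin.castAdd 2 l), i, j, ?_⟩
    funext l
    induction l using Fin.addCases with
    | left l => simp [P]
    | right l => simp only [P, Fin.append_right]; exact (congrFun hij l).symm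
  have hPh : ∀ z i j z' i' j', Cfsg.hermForm (m + 2) F q (P z i j) (P z' i' j') =
      Cfsg.hermForm m F q z z' + i * j' ^ q + j * i' ^ q := by
    intro z i j z' i' j'
    rw [show P z i j = Fin.append z (i • e₂ + j • f₂) from rfl,
      show P z' i' j' = Fin.append z' (i' • e₂ + j' • f₂) from rfl, hermForm_append, h_comb hF, hee, hff,
      hef, hfe]
    ring
  have hPz : ∀ z z' i i' j j', P (z + z') (i + i') (j + j') = P z i j + P z' i' j' := by
    intro z z' i i' j j'
    funext l
    induction l using Fin.addCases with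
    | left l => simp [P]
    | right l => simp [P]; ring
  have hPs : ∀ (c : F) z i j, P (c • z) (c * i) (c * j) = c • P z i j := by
    intro c z i j
    funext l
    induction l using Fin.addCases with
    | left l => simp [P]
    | right l => simp [P]; ring
  obtain ⟨τ, hτ⟩ := exists_trace hF (r := -Cfsg.hermForm m F q y₁ y₁) (by rw [q_neg hF, herm_conj hF])
  let E : Fin (m + 2) → F := Fin.append 0 e₂
  let G : Fin (m + 2) → F := Fin.append 0 f₂
  let π : (Fin (m + 2) → F) →ₗ[F] (Fin m → F) := LinearMap.funLeft F F (Fin.castAdd 2)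
  have hπ : ∀ z i j, π (P z i j) = z := fun z i j => funext fun l => by simp [π, P, LinearMap.funLeft_apply]
  have hE : E = P 0 1 0 := by simp [E, P]
  have hG : G = P 0 0 1 := by simp [G, P]
  let L : (Fin (m + 2) → F) →ₗ[F] (Fin (m + 2) → F) :=
    { toFun := fun v => P ((u₀ : Matrix (Fin m) (Fin m) F) *ᵥ π v - Cfsg.hermForm (m + 2) F q v E • y₁)
        (Cfsg.hermForm (m + 2) F q v G + Cfsg.hermForm m F q ((u₀ : Matrix (Fin m) (Fin m) F) *ᵥ π v) y₁
          + Cfsg.hermForm (m + 2) F q v E * τ) (Cfsg.hermForm (m + 2) F q v E)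
      map_add' := fun v v' => by
        rw [← hPz]
        simp only [map_add, mulVec_add, herm_add_left hF, add_smul]
        congr 1 <;> first | ring1 | abel
      map_smul' := fun c v => by
        rw [RingHom.id_apply, ← hPs]
        simp only [map_smul, mulVec_smul, herm_smul_left hF, smul_sub, smul_smul]
        congr 1; ring }
  have hL : ∀ z i j, L (P z i j) = P ((u₀ : Matrix (Fin m) (Fin m) F) *ᵥ z - j • y₁)
      (i + Cfsg.hermForm m F q ((u₀ : Matrix (Fin m) (Fin m) F) *ᵥ z) y₁ + j * τ) j := by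
    intro z i j
    show P _ _ _ = _
    rw [hπ, hE, hG, hPh, hPh, h_zero_right hF, one_pow, q_zero hF]
    simp
  have hP0 : P 0 0 0 = 0 := funext fun l => by
    induction l using Fin.addCases with
    | left l => simp [P]
    | right l => simp [P]
  let N : (Fin (m + 2) → F) →ₗ[F] (Fin (m + 2) → F) := L - LinearMap.id
  have hN : ∀ z i j, N (P z i j) = P (nu u₀ z - j • y₁)
      (Cfsg.hermForm m F q ((u₀ : Matrix (Fin m) (Fin m) F) *ᵥ z) y₁ + j * τ) 0 := by
    intro z i j
    rw [LinearMap.sub_apply, LinearMap.id_apply, hL, sub_eq_iff_eq_add, ← hPz, nu_apply, zero_add]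
    congr 1 <;> first | ring1 | abel
  have hNk : ∀ k z i, (N ^ (k + 1)) (P z i 0) = P ((nu u₀ ^ (k + 1)) z)
      (Cfsg.hermForm m F q ((u₀ : Matrix (Fin m) (Fin m) F) *ᵥ (nu u₀ ^ k) z) y₁) 0 := by
    intro k
    induction k with
    | zero => intro z i; simp [hN]
    | succ k ih =>
      intro z i
      rw [pow_succ', Module.End.mul_apply, ih, hN, zero_smul, sub_zero, zero_mul, add_zero,
        ← Module.End.mul_apply, ← pow_succ']
  have hnil : ∀ v, (N ^ (m + 2)) v = 0 := by
    intro v
    obtain ⟨z, i, j, rfl⟩ := hP v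
    rw [pow_succ, Module.End.mul_apply, hN, hNk, R.pow_zero, mulVec_zero, h_zero_left hF,
      pow_ge hF R (by omega)]
    rw [hP0]
  let M : Matrix (Fin (m + 2)) (Fin (m + 2)) F := LinearMap.toMatrix' N
  have hMnil : IsNilpotent M := by
    refine ⟨m + 2, ?_⟩
    have : N ^ (m + 2) = 0 := LinearMap.ext hnil
    rw [← LinearMap.toMatrix'_toLin' (M ^ (m + 2)), Matrix.toLin'_pow, Matrix.toLin'_toMatrix', this, map_zero]
  have hdet := det_one_add_nilpotent hMnil
  have hMv : ∀ x, (1 + M) *ᵥ x = L x := fun x => by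
    rw [add_mulVec, one_mulVec, LinearMap.toMatrix'_mulVec]
    simp [N]
  have hpres : ∀ x y, Cfsg.hermForm (m + 2) F q ((1 + M) *ᵥ x) ((1 + M) *ᵥ y) =
      Cfsg.hermForm (m + 2) F q x y := by
    intro x y
    obtain ⟨z, i, j, rfl⟩ := hP x
    obtain ⟨z', i', j', rfl⟩ := hP y
    rw [hMv, hMv, hL, hL, hPh, hPh]
    simp only [h_sub_left hF, h_sub_right hF, herm_smul_left hF, herm_smul_right hF, apply_K R.mem,
      q_add hF, mul_pow]
    rw [← herm_conj hF ((u₀ : Matrix (Fin m) (Fin m) F) *ᵥ z') y₁]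
    linear_combination (j * j' ^ q) * hτ
  refine ⟨glMk (1 + M) hdet, P 0 0 1, glMk_mem _ _ hpres, ?_, ?_⟩
  all_goals
    have hnu : nu (glMk (1 + M) hdet) = N := LinearMap.ext fun x => by
      rw [nu_apply, glMk_val, hMv]; simp [N]
    rw [hnu]
  · exact hnil
  · intro h0
    rw [show m + 2 - 1 = (m - 1 + 1) + 1 by omega, pow_succ, Module.End.mul_apply, hN, map_zero,
      zero_sub, one_smul, mulVec_zero, h_zero_left hF, zero_add, one_mul, hNk, map_neg, map_neg, mulVec_neg,
      show m - 1 + 1 = m by omega, R.pow_zero, u_fixed hF R hm, h_neg_left hF] at h0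
    have h1 := congrArg (fun v => Cfsg.hermForm (m + 2) F q v (P 0 0 1)) h0
    simp only [hPh, h_zero_left hF, h_neg_left hF, h_zero_right hF, one_pow, mul_one, zero_mul, add_zero,
      q_zero hF, mul_zero, neg_zero, zero_add] at h1
    refine h_y₀_ne hF R hm (h_symm hF ?_)
    exact neg_eq_zero.mp h1

theorem exists_reg : ∀ k : ℕ, ∃ (u : GL (Fin (2 * k + 1)) F) (y : Fin (2 * k + 1) → F), Reg q u y
  | 0 => ⟨1, fun _ => 1, Subgroup.one_mem _, fun x => by simp [nu],
      fun h0 => one_ne_zero (congrFun h0 0)⟩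
  | k + 1 => by
    obtain ⟨u, y, R⟩ := exists_reg k
    exact exists_reg_step hF (by omega) R

end Cfsg.Agent.Lib.UnitaryReg9
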