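import Cfsg.Agent.Lib.UnitaryReg9.Basic

/-!
Growing nondegenerate subspaces all whose singular vectors are root vectors of a subgroup.
-/

set_option autoImplicit false
set_option linter.unusedSectionVars false

namespace Cfsg.Agent.Lib.UnitaryReg9

open Matrix Cfsg.Agent.Lib.Forms Cfsg.Agent.Lib.FormMax Cfsg.Agent.Lib.UnitaryMax

variable {F : Type*} [Field F] [Fintype F] {n q : ℕ}

local notation "Vs" => (Fin n → F)
local notation "h" => Cfsg.hermForm n F q

/-- All singular vectors of `W` are root vectors of `H`. -/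
def Full (q : ℕ) (H : Subgroup (GL (Fin n) F)) (W : Submodule F Vs) : Prop :=
  ∀ v ∈ W, Cfsg.hermForm n F q v v = 0 → v ∈ root q H

/-- The form is nondegenerate on `W`. -/
def Nondeg (q : ℕ) (W : Submodule F Vs) : Prop :=
  ∀ x ∈ W, x ≠ 0 → ∃ y ∈ W, Cfsg.hermForm n F q x y ≠ 0

variable (hF : Fintype.card F = q ^ 2)
include hF

theorem h_comb (a a' b b' : F) (x x' y y' : Vs) :
    h (a • x + b • y) (a' • x' + b' • y') =
      a * a' ^ q * h x x' + a * b' ^ q * h x y' + b * a' ^ q * h y x' + b * b' ^ q * h y y' := by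
  simp only [herm_add_left hF, herm_add_right hF, herm_smul_left hF, herm_smul_right hF]; ring

theorem T_apply_root {H : Subgroup (GL (Fin n) F)} (hH : H ≤ suGL n F q) {v : Vs} (hv : v ∈ root q H)
    {c : F} (hc : c + c ^ q = 0) {x : Vs} (hx : x ∈ root q H) : x + (c * h x v) • v ∈ root q H := by
  have h1 := root_map hH (hv.2 c hc) hx
  rwa [T_mulVec] at h1

variable {H : Subgroup (GL (Fin n) F)} (hH : H ≤ suGL n F q)
include hH

/-- The hyperbolic plane on two root vectors. -/
theorem full_plane {e f : Vs} (he : e ∈ root q H) (hf : f ∈ root q H) (hef : h e f = 1) :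
    Full q H (Submodule.span F {e, f}) := by
  intro v hv hv0
  obtain ⟨i, j, rfl⟩ := Submodule.mem_span_pair.mp hv
  have hfe : h f e = 1 := by rw [← herm_conj hF, hef, one_pow]
  rw [h_comb hF, he.1, hf.1, hef, hfe] at hv0
  rcases eq_or_ne j 0 with rfl | hj
  · rw [zero_smul, add_zero]; exact root_smul hF he i
  have hj' : j ^ q ≠ 0 := pow_ne_zero _ hj
  have hc : i / j + (i / j) ^ q = 0 := by
    rw [div_pow]; field_simp; linear_combination hv0
  have h1 := root_smul hF (T_apply_root hF hH he hc hf) j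
  rw [hfe, mul_one, smul_add, smul_smul, mul_div_cancel₀ _ hj, add_comm] at h1
  exact h1

/-- Transitivity of the plane group on vectors of a nonzero norm, with a fixed orthogonal part. -/
theorem move_plane {e f b : Vs} (he : e ∈ root q H) (hf : f ∈ root q H) (hef : h e f = 1)
    (heb : h e b = 0) (hfb : h f b = 0) {i j i' j' : F} (hN : i * j ^ q + j * i ^ q ≠ 0)
    (heq : i' * j' ^ q + j' * i' ^ q = i * j ^ q + j * i ^ q) (hr : i • e + j • f + b ∈ root q H) :
    i' • e + j' • f + b ∈ root q H := by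
  have hfe : h f e = 1 := by rw [← herm_conj hF, hef, one_pow]
  have hbe := h_symm hF heb
  have hbf := h_symm hF hfb
  have stepF : ∀ i j c : F, c + c ^ q = 0 → i • e + j • f + b ∈ root q H →
      i • e + (j + c * i) • f + b ∈ root q H := by
    intro i j c hc hx
    have h1 := T_apply_root hF hH hf hc hx
    simp only [herm_add_left hF, herm_smul_left hF, hef, hf.1, hbf, mul_one, mul_zero, add_zero] at h1
    convert h1 using 1
    module
  have stepE : ∀ i j c : F, c + c ^ q = 0 → i • e + j • f + b ∈ root q H →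
      (i + c * j) • e + j • f + b ∈ root q H := by
    intro i j c hc hx
    have h1 := T_apply_root hF hH he hc hx
    simp only [herm_add_left hF, herm_smul_left hF, hfe, he.1, hbe, mul_one, mul_zero, add_zero,
      zero_add] at h1
    convert h1 using 1
    module
  have hi' : i' ≠ 0 := fun e' => hN (by rw [← heq, e', q_zero hF]; ring)
  have hj : j ≠ 0 := fun e' => hN (by rw [e', q_zero hF]; ring)
  obtain ⟨j₁, hj₁, hn₁⟩ : ∃ j₁, i' • e + j₁ • f + b ∈ root q H ∧
      i' * j₁ ^ q + j₁ * i' ^ q = i * j ^ q + j * i ^ q := by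
    set N := i * j ^ q + j * i ^ q with hNdef
    set d := i' - i with hd
    set r := (d * j ^ q + j * d ^ q) / N with hrdef
    have hNq : N ^ q = N := by
      rw [hNdef, q_add hF, mul_pow, mul_pow, pow_q_pow_q hF, pow_q_pow_q hF]; ring
    have hrq : r ^ q = r := by
      rw [hrdef, div_pow, hNq, q_add hF, mul_pow, mul_pow, pow_q_pow_q hF, pow_q_pow_q hF]; ring
    have hrN : r * N = d * j ^ q + j * d ^ q := div_mul_cancel₀ _ hN
    have finish : ∀ {i₀ c : F}, c + c ^ q = 0 → c ≠ 0 → i₀ • e + j • f + b ∈ root q H →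
        i₀ * j ^ q + j * i₀ ^ q = N → i' = i₀ + r * i₀ + c * j →
        ∃ j₁, i' • e + j₁ • f + b ∈ root q H ∧ i' * j₁ ^ q + j₁ * i' ^ q = N := by
      intro i₀ c hc hc0 hx hn₀ hi₀
      have hc1 : r / c + (r / c) ^ q = 0 := by
        rw [div_pow, hrq, q_skew_eq hF hc, div_neg, add_neg_cancel]
      refine ⟨j + r / c * i₀, ?_, ?_⟩
      · have h1 := stepE _ _ c hc (stepF _ _ _ hc1 hx)
        rwa [show i₀ + c * (j + r / c * i₀) = i' by rw [hi₀]; field_simp; ring] at h1
      · rw [hi₀]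
        simp only [q_add hF, mul_pow, hrq, div_pow, q_skew_eq hF hc]
        field_simp
        linear_combination c * hn₀
    set c := (d - r * i) / j with hcdef
    have hc : c + c ^ q = 0 := by
      rw [hcdef, div_pow, q_sub hF, mul_pow, hrq]
      have hj' : j ^ q ≠ 0 := pow_ne_zero _ hj
      field_simp
      rw [hNdef] at hrN
      linear_combination -hrN
    have hcj : c * j = d - r * i := div_mul_cancel₀ _ hj
    by_cases hc0 : c = 0
    · obtain ⟨δ, hδ, hδ0⟩ := exists_skew_ne hF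
      have hdr : d = r * i := by rw [hc0, zero_mul] at hcj; linear_combination -hcj
      have hr1 : 1 + r ≠ 0 := fun e' => hi' (by linear_combination hdr - hd.symm + i * e')
      refine finish (i₀ := i + δ * j) (c := -(δ * (1 + r))) ?_ (neg_ne_zero.mpr (mul_ne_zero hδ0 hr1))
        (stepE _ _ δ hδ hr) ?_ ?_
      · rw [q_neg hF, mul_pow, q_skew_eq hF hδ, q_add hF, one_pow, hrq]; ring
      · rw [q_add hF, mul_pow, q_skew_eq hF hδ, hNdef]; ring
      · linear_combination hdr - hd.symm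
    · exact finish hc hc0 hr rfl (by linear_combination -hcj - hd.symm)
  have hc : (j' - j₁) / i' + ((j' - j₁) / i') ^ q = 0 := by
    have hi'' : i' ^ q ≠ 0 := pow_ne_zero _ hi'
    rw [div_pow, q_sub hF]
    field_simp
    linear_combination heq - hn₁
  have h1 := stepF _ _ _ hc hj₁
  rwa [div_mul_cancel₀ _ hi', add_sub_cancel] at h1

omit hH in
theorem exists_aniso {U : Submodule F Vs} (hU : Nondeg q U) (h0 : U ≠ ⊥) : ∃ z ∈ U, h z z ≠ 0 := by
  by_contra hne
  push Not at hne
  obtain ⟨x, hx, hx0⟩ := Submodule.exists_mem_ne_zero_of_ne_bot h0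
  obtain ⟨y, hy, hxy⟩ := hU x hx hx0
  obtain ⟨τ, hτ⟩ := exists_trace_one hF
  have h1 := hne _ (U.add_mem (U.smul_mem (τ / h x y) hx) hy)
  rw [herm_add_left hF, herm_add_right hF, herm_add_right hF, herm_smul_left hF, herm_smul_left hF,
    herm_smul_right hF, herm_smul_right hF, hne x hx, hne y hy, ← herm_conj hF x y, div_mul_cancel₀ _ hxy,
    div_pow, div_mul_cancel₀ _ (pow_ne_zero _ hxy)] at h1
  exact one_ne_zero (show (1 : F) = 0 by linear_combination h1 - hτ)

omit hH in
theorem exists_real_avoid (hq : 3 ≤ q) (z : F) : ∃ r : F, r ^ q = r ∧ r ≠ 0 ∧ r ≠ z := by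
  by_contra hne
  push Not at hne
  have hz : z = 1 := (hne 1 (one_pow q) one_ne_zero).symm
  have hall : ∀ a : Fˣ, a ^ (q + 1) = 1 := fun a => by
    ext
    rw [Units.val_pow_eq_pow_val, Units.val_one, pow_succ', ← hz]
    exact hne _ (q_norm hF _) (mul_ne_zero a.ne_zero (pow_ne_zero _ a.ne_zero))
  classical
  have h1 : Monoid.exponent Fˣ ∣ q + 1 := Monoid.exponent_dvd_of_forall_pow_eq_one hall
  rw [IsCyclic.exponent_eq_card, Nat.card_eq_fintype_card, Fintype.card_units, hF] at h1
  have := Nat.le_of_dvd (by omega) h1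
  have h2 : q + 1 < q ^ 2 - 1 := by
    have : q * 3 ≤ q * q := Nat.mul_le_mul_left q hq
    rw [sq]; omega
  omega

omit hH in
/-- The part of `W` orthogonal to two vectors. -/
theorem exists_perp_pair {W : Submodule F Vs} (x y : Vs) :
    ∃ Z : Submodule F Vs, Z ≤ W ∧ Module.finrank F W ≤ Module.finrank F Z + 2 ∧
      ∀ z ∈ W, (z ∈ Z ↔ h z x = 0 ∧ h z y = 0) := by
  let L : W →ₗ[F] (Fin 2 → F) :=
    { toFun := fun w => ![h (w : Vs) x, h (w : Vs) y]
      map_add' := fun a b => by ext i; fin_cases i <;> simp [herm_add_left hF]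
      map_smul' := fun c a => by ext i; fin_cases i <;> simp [herm_smul_left hF] }
  refine ⟨L.ker.map W.subtype, Submodule.map_subtype_le _ _, ?_, fun z hz => ?_⟩
  · rw [(Submodule.equivMapOfInjective _ W.injective_subtype _).finrank_eq.symm]
    have h1 := L.finrank_range_add_finrank_ker
    have h2 : Module.finrank F (LinearMap.range L) ≤ 2 :=
      le_trans (Submodule.finrank_le _) (by simp)
    omega
  · constructor
    · rintro ⟨w, hw, rfl⟩
      have e : ![h (w : Vs) x, h (w : Vs) y] = 0 := hw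
      exact ⟨by simpa using congrFun e 0, by simpa using congrFun e 1⟩
    · rintro ⟨h1, h2⟩
      exact ⟨⟨z, hz⟩, by ext i; fin_cases i <;> simp [L, h1, h2], rfl⟩

/-- Moving between two vectors spanning a nondegenerate plane. -/
theorem move_pair {W : Submodule F Vs} (hW : Full q H W) {a a' b : Vs} (ha : a ∈ W) (ha' : a' ∈ W)
    (hb : ∀ w ∈ W, h w b = 0) (heq : h a' a' = h a a) (hN : h a a ≠ 0)
    (hG : h a a' * h a a' ^ q ≠ h a a ^ 2) (hr : a + b ∈ root q H) : a' + b ∈ root q H := by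
  set N := h a a with hNdef
  set θ := h a a' with hθ
  have hNq : N ^ q = N := herm_conj hF a a
  have hθ' : h a' a = θ ^ q := (herm_conj hF a a').symm
  obtain ⟨s₁, hs₁⟩ := exists_norm hF (r := θ * θ ^ q / N ^ 2 - 1) (by
    rw [q_sub hF, div_pow, one_pow, q_norm hF, ← pow_mul, mul_comm 2 q, pow_mul, hNq])
  have hs₁0 : s₁ ≠ 0 := fun e' => hG (by
    rw [e', zero_mul] at hs₁
    field_simp at hs₁
    linear_combination -hs₁)
  set s := -(θ ^ q) / N + s₁ with hs
  have hsq : s ^ q = -θ / N + s₁ ^ q := by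
    rw [hs, q_add hF, div_pow, q_neg hF, pow_q_pow_q hF, hNq]
  set e := a' + s • a with he
  have hee : h e e = 0 := by
    simp only [he, herm_add_left hF, herm_add_right hF, herm_smul_left hF, herm_smul_right hF, heq,
      ← hNdef, ← hθ, hθ', hsq]
    rw [hs]
    field_simp
    field_simp at hs₁
    linear_combination hs₁
  have hae : h a e ≠ 0 := by
    simp only [he, herm_add_right hF, herm_smul_right hF, ← hNdef, ← hθ, hsq]
    rw [show θ + (-θ / N + s₁ ^ q) * N = s₁ ^ q * N by field_simp; ring]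
    exact mul_ne_zero (pow_ne_zero _ hs₁0) hN
  obtain ⟨t, ht⟩ := exists_fill hF hee hae
  have heW : e ∈ W := W.add_mem ha' (W.smul_mem _ ha)
  have hea : h e a ≠ 0 := fun e' => hae (h_symm hF e')
  set k := ((h e a)⁻¹) ^ q with hk
  set f := k • (a + t • e) with hf
  have hfW : f ∈ W := W.smul_mem _ (W.add_mem ha (W.smul_mem _ heW))
  have hef : h e f = 1 := by
    rw [hf, herm_smul_right hF, herm_add_right hF, herm_smul_right hF, hee, mul_zero, add_zero, hk,
      pow_q_pow_q hF, inv_mul_cancel₀ hea]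
  have hff : h f f = 0 := by rw [hf, herm_smul_left hF, herm_smul_right hF, ht, mul_zero, mul_zero]
  have hk0 : k ≠ 0 := pow_ne_zero _ (inv_ne_zero hea)
  have ea : a = (-t) • e + k⁻¹ • f := by rw [hf, inv_smul_smul₀ hk0]; module
  have ea' : a' = (1 + s * t) • e + (-(s * k⁻¹)) • f := by
    rw [hf, neg_smul, mul_smul, inv_smul_smul₀ hk0, he]; module
  have hfe : h f e = 1 := by rw [← herm_conj hF, hef, one_pow]
  have e1 : h a a = (-t) * k⁻¹ ^ q + k⁻¹ * (-t) ^ q := by
    conv_lhs => rw [ea]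
    rw [h_comb hF, hee, hff, hef, hfe]; ring
  have e2 : h a' a' = (1 + s * t) * (-(s * k⁻¹)) ^ q + (-(s * k⁻¹)) * (1 + s * t) ^ q := by
    conv_lhs => rw [ea']
    rw [h_comb hF, hee, hff, hef, hfe]; ring
  rw [ea] at hr
  rw [ea']
  refine move_plane hF hH (hW e heW hee) (hW f hfW hff) hef (hb e heW) (hb f hfW) ?_ ?_ hr
  · rw [← e1]; exact hN
  · rw [← e1, ← e2, heq]

/-- Transitivity on vectors of a nonzero norm. -/
theorem move_norm {W : Submodule F Vs} (hW : Full q H W) (hWn : Nondeg q W)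
    (hbig : (3 ≤ q ∧ 3 ≤ Module.finrank F W) ∨ 4 ≤ Module.finrank F W) {a a' b : Vs} (ha : a ∈ W)
    (ha' : a' ∈ W) (hb : ∀ w ∈ W, h w b = 0) (heq : h a' a' = h a a) (hN : h a a ≠ 0)
    (hr : a + b ∈ root q H) : a' + b ∈ root q H := by
  by_cases hG : h a a' * h a a' ^ q = h a a ^ 2
  swap
  · exact move_pair hF hH hW ha ha' hb heq hN hG hr
  set N := h a a with hNdef
  set θ := h a a' with hθ
  have hNq : N ^ q = N := herm_conj hF a a
  have hθ' : h a' a = θ ^ q := (herm_conj hF a a').symm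
  suffices hg : ∃ g ∈ W, h g a = 0 ∧ h g g ≠ 0 ∧ h g a' * h g a' ^ q ≠ N * h g g by
    obtain ⟨g, hgW, hga, hgg, hgN⟩ := hg
    obtain ⟨j, hj⟩ := exists_norm hF (r := N / h g g) (by rw [div_pow, hNq, herm_conj hF])
    have hmm : h (j • g) (j • g) = N := by
      rw [herm_smul_left hF, herm_smul_right hF, ← mul_assoc, hj, div_mul_cancel₀ _ hgg]
    have hm := move_pair hF hH hW ha (W.smul_mem j hgW) hb hmm hN (by
      rw [herm_smul_right hF, h_symm hF hga, mul_zero, zero_mul]
      exact (pow_ne_zero 2 hN).symm) hr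
    refine move_pair hF hH hW (W.smul_mem j hgW) ha' hb (by rw [hmm, heq]) (hmm ▸ hN) ?_ hm
    rw [hmm, herm_smul_left hF, mul_pow]
    intro e'
    refine hgN (mul_left_cancel₀ hN ?_)
    field_simp at hj
    linear_combination (h g g) * e' - (h g a' * h g a' ^ q) * hj
  set r := a' - (θ ^ q / N) • a with hrdef
  have hrW : r ∈ W := W.sub_mem ha' (W.smul_mem _ ha)
  have hra : h r a = 0 := by
    rw [hrdef, h_sub_left hF, herm_smul_left hF, hθ', ← hNdef, div_mul_cancel₀ _ hN, sub_self]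
  have hrr : h r r = 0 := by
    rw [hrdef, h_sub_left hF, h_sub_right hF, h_sub_right hF, herm_smul_left hF, herm_smul_left hF,
      herm_smul_right hF, herm_smul_right hF, heq, ← hNdef, ← hθ, hθ', div_pow, pow_q_pow_q hF, hNq]
    field_simp
    linear_combination -hG
  have hgr : ∀ g, h g a = 0 → h g a' = h g r := fun g hga => by
    rw [hrdef, h_sub_right hF, herm_smul_right hF, hga, mul_zero, sub_zero]
  obtain ⟨Z, hZW, hZdim, hZ⟩ := exists_perp_pair (W := W) hF a r
  have hU : ∀ x ∈ W, ∃ x' ∈ W, h x' a = 0 ∧ ∀ y, h y a = 0 → h y x' = h y x := fun x hx =>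
    ⟨x - (h x a / N) • a, W.sub_mem hx (W.smul_mem _ ha), by
      rw [h_sub_left hF, herm_smul_left hF, ← hNdef, div_mul_cancel₀ _ hN, sub_self], fun y hy => by
      rw [h_sub_right hF, herm_smul_right hF, hy, mul_zero, sub_zero]⟩
  rcases eq_or_ne r 0 with hr0 | hr0
  · have hU0 : Z ≠ ⊥ := fun e' => by rw [e', finrank_bot] at hZdim; omega
    have hZn : Nondeg q Z := by
      intro x hx hx0
      obtain ⟨y, hy, hxy⟩ := hWn x (hZW hx) hx0
      obtain ⟨y', hy', hy'a, hy'e⟩ := hU y hy
      refine ⟨y', (hZ y' hy').2 ⟨hy'a, by rw [hr0, h_zero_right hF]⟩, ?_⟩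
      rw [hy'e x ((hZ x (hZW hx)).1 hx).1]; exact hxy
    obtain ⟨g, hg, hgg⟩ := exists_aniso hF hZn hU0
    obtain ⟨hga, hgr'⟩ := (hZ g (hZW hg)).1 hg
    refine ⟨g, hZW hg, hga, hgg, ?_⟩
    rw [hgr g hga, hgr', zero_mul]; exact (mul_ne_zero hN hgg).symm
  obtain ⟨y₀, hy₀, hry₀⟩ := hWn r hrW hr0
  obtain ⟨y₁, hy₁, hy₁a, hy₁e⟩ := hU y₀ hy₀
  have hry₁ : h r y₁ ≠ 0 := by rw [hy₁e r hra]; exact hry₀
  obtain ⟨y, hyW, hry, hya⟩ : ∃ y ∈ W, h r y = 1 ∧ h y a = 0 :=
    ⟨((h r y₁)⁻¹) ^ q • y₁, W.smul_mem _ hy₁, by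
      rw [herm_smul_right hF, pow_q_pow_q hF, inv_mul_cancel₀ hry₁], by
      rw [herm_smul_left hF, hy₁a, mul_zero]⟩
  have hyr : h y r = 1 := by rw [← herm_conj hF, hry, one_pow]
  by_cases hq : 3 ≤ q
  · obtain ⟨G, hGq, hG0, hG1⟩ := exists_real_avoid hF hq (1 / N)
    obtain ⟨t, ht⟩ := exists_trace hF (r := G - h y y) (by rw [q_sub hF, hGq, herm_conj hF])
    refine ⟨y + t • r, W.add_mem hyW (W.smul_mem _ hrW), ?_, ?_, ?_⟩
    · rw [herm_add_left hF, herm_smul_left hF, hya, hra, mul_zero, add_zero]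
    · rw [herm_add_left hF, herm_add_right hF, herm_add_right hF, herm_smul_left hF, herm_smul_left hF,
        herm_smul_right hF, herm_smul_right hF, hrr, hry, hyr]
      intro e'
      exact hG0 (by linear_combination e' - ht)
    · have hga : h (y + t • r) a = 0 := by
        rw [herm_add_left hF, herm_smul_left hF, hya, hra, mul_zero, add_zero]
      have e3 : h (y + t • r) r = 1 := by
        rw [herm_add_left hF, herm_smul_left hF, hyr, hrr, mul_zero, add_zero]
      have e4 : h (y + t • r) (y + t • r) = G := by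
        rw [herm_add_left hF, herm_add_right hF, herm_add_right hF, herm_smul_left hF, herm_smul_left hF,
          herm_smul_right hF, herm_smul_right hF, hrr, hry, hyr]
        linear_combination ht
      rw [hgr _ hga, e3, e4, one_pow, one_mul]
      intro e'
      exact hG1 (by field_simp; linear_combination -e')
  -- q = 2
  by_contra hno
  push Not at hno
  have hk : 4 ≤ Module.finrank F W := hbig.resolve_left fun hh => hq hh.1
  have hsing : ∀ z ∈ Z, h z z = 0 := by
    intro z hz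
    by_contra hzz
    obtain ⟨hza, hzr⟩ := (hZ z (hZW hz)).1 hz
    have h1 := hno z (hZW hz) hza hzz
    rw [hgr z hza, hzr, zero_mul] at h1
    exact mul_ne_zero hN hzz h1.symm
  have horth : ∀ x ∈ Z, ∀ z ∈ Z, h x z = 0 := by
    intro x hx z hz
    by_contra hxz
    obtain ⟨τ, hτ⟩ := exists_trace_one hF
    have h1 := hsing _ (Z.add_mem (Z.smul_mem (τ / h x z) hx) hz)
    rw [herm_add_left hF, herm_add_right hF, herm_add_right hF, herm_smul_left hF, herm_smul_left hF,
      herm_smul_right hF, herm_smul_right hF, hsing x hx, hsing z hz, ← herm_conj hF x z,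
      div_mul_cancel₀ _ hxz, div_pow, div_mul_cancel₀ _ (pow_ne_zero _ hxz)] at h1
    exact one_ne_zero (show (1 : F) = 0 by linear_combination h1 - hτ)
  have hsub : Z ≤ Submodule.span F {r} := by
    intro z hz
    obtain ⟨hza, hzr⟩ := (hZ z (hZW hz)).1 hz
    set z' := z - (h y z) ^ q • r with hz'
    have hz'W : z' ∈ W := W.sub_mem (hZW hz) (W.smul_mem _ hrW)
    have hz'y : h y z' = 0 := by
      rw [hz', h_sub_right hF, herm_smul_right hF, pow_q_pow_q hF, hyr, mul_one, sub_self]
    have hz'0 : z' = 0 := by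
      by_contra hne
      obtain ⟨x, hx, hxz⟩ := hWn z' hz'W hne
      obtain ⟨x', hx', hx'a, hx'e⟩ := hU x hx
      have hz'a : h z' a = 0 := by
        rw [hz', h_sub_left hF, herm_smul_left hF, hza, hra, mul_zero, sub_zero]
      have hxZ : x' - h x' r • y ∈ Z := (hZ _ (W.sub_mem hx' (W.smul_mem _ hyW))).2
        ⟨by rw [h_sub_left hF, herm_smul_left hF, hx'a, hya, mul_zero, sub_zero],
          by rw [h_sub_left hF, herm_smul_left hF, hyr, mul_one, sub_self]⟩
      have hxr : h (x' - h x' r • y) r = 0 := ((hZ _ (hZW hxZ)).1 hxZ).2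
      have h1 : h (x' - h x' r • y) z' = 0 := by
        rw [hz', h_sub_right hF, herm_smul_right hF, horth _ hxZ z hz, hxr, mul_zero, sub_zero]
      rw [h_sub_left hF, herm_smul_left hF, hz'y, mul_zero, sub_zero] at h1
      have h2 := h_symm hF h1
      rw [hx'e z' hz'a] at h2
      exact hxz h2
    rw [sub_eq_zero.mp hz'0]
    exact Submodule.mem_span_singleton.mpr ⟨_, rfl⟩
  have := Submodule.finrank_mono hsub
  rw [finrank_span_singleton hr0] at this
  omega

/-- Adjoining an anisotropic vector. -/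
theorem full_sup_aniso {W : Submodule F Vs} (hW : Full q H W) {b : Vs} (hb : ∀ w ∈ W, h w b = 0)
    (hmove : ∀ a' ∈ W, h a' a' = -h b b → a' + b ∈ root q H) :
    Full q H (W ⊔ Submodule.span F {b}) := by
  intro v hv hv0
  obtain ⟨w, hw, x, hx, rfl⟩ := Submodule.mem_sup.mp hv
  obtain ⟨t, rfl⟩ := Submodule.mem_span_singleton.mp hx
  rw [herm_add_left hF, herm_add_right hF, herm_add_right hF, herm_smul_left hF, herm_smul_left hF,
    herm_smul_right hF, herm_smul_right hF, hb w hw, h_symm hF (hb w hw), mul_zero, mul_zero, add_zero,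
    zero_add] at hv0
  rcases eq_or_ne t 0 with rfl | ht
  · rw [zero_smul, add_zero]; exact hW w hw (by simpa using hv0)
  have ht' : t ^ q ≠ 0 := pow_ne_zero _ ht
  have h1 := root_smul hF (hmove (t⁻¹ • w) (W.smul_mem _ hw) (by
    rw [herm_smul_left hF, herm_smul_right hF, inv_pow]
    field_simp
    linear_combination hv0)) t
  rwa [smul_add, smul_inv_smul₀ ht] at h1

omit hH in
theorem nondeg_sup_aniso {W : Submodule F Vs} (hW : Nondeg q W) {b : Vs} (hb : ∀ w ∈ W, h w b = 0)
    (hbb : h b b ≠ 0) : Nondeg q (W ⊔ Submodule.span F {b}) := by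
  intro v hv hv0
  obtain ⟨w, hw, x, hx, rfl⟩ := Submodule.mem_sup.mp hv
  obtain ⟨t, rfl⟩ := Submodule.mem_span_singleton.mp hx
  rcases eq_or_ne t 0 with rfl | ht
  · rw [zero_smul, add_zero] at hv0 ⊢
    obtain ⟨y, hy, hwy⟩ := hW w hw hv0
    exact ⟨y, Submodule.mem_sup_left hy, hwy⟩
  · refine ⟨b, Submodule.mem_sup_right (Submodule.mem_span_singleton_self b), ?_⟩
    rw [herm_add_left hF, herm_smul_left hF, hb w hw, zero_add]
    exact mul_ne_zero ht hbb

/-- Adjoining a singular vector orthogonal to `W`. -/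
theorem root_add_singular {W : Submodule F Vs} (hW : Full q H W) (hWn : Nondeg q W)
    (hk : 3 ≤ Module.finrank F W) {a d : Vs} (ha : a ∈ W) (ha0 : a ≠ 0) (haa : h a a = 0)
    (hd : ∀ w ∈ W, h w d = 0) (hdd : h d d = 0) (hr : a + d ∈ root q H) :
    (∀ x ∈ W, h x x = 0 → x ≠ 0 → ∀ ν : F, x + ν • d ∈ root q H) ∧ d ∈ root q H := by
  have tr : ∀ x ∈ W, h x x = 0 → ∀ ν : F, x + ν • d ∈ root q H → ∀ y ∈ W, ∀ μ : F,
      y + μ • d ∈ root q H → ∀ c : F, c + c ^ q = 0 → y + (μ + c * h y x * ν) • d ∈ root q H := by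
    intro x hx hxx ν hxr y hy μ hyr c hc
    have hc' : -c + (-c) ^ q = 0 := by rw [q_neg hF]; linear_combination -hc
    have h1 := T_apply_root hF hH (hW x hx hxx) hc' (T_apply_root hF hH hxr hc hyr)
    simp only [herm_add_left hF, herm_add_right hF, herm_smul_left hF, herm_smul_right hF, hd y hy,
      h_symm hF (hd x hx), hdd, hd x hx, hxx, mul_zero, add_zero] at h1
    convert h1 using 1
    module
  have zero : ∀ y ∈ W, h y y = 0 → y + (0 : F) • d ∈ root q H := fun y hy hyy => by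
    rw [zero_smul, add_zero]; exact hW y hy hyy
  obtain ⟨δ, hδ, hδ0⟩ := exists_skew_ne hF
  obtain ⟨x₁, hx₁, hax₁⟩ := hWn a ha ha0
  obtain ⟨t, ht⟩ := exists_fill hF (x := x₁) haa (fun e' => hax₁ (h_symm hF e'))
  set x := ((h a x₁)⁻¹) ^ q • (x₁ + t • a) with hxdef
  have hxW : x ∈ W := W.smul_mem _ (W.add_mem hx₁ (W.smul_mem _ ha))
  have hax : h a x = 1 := by
    rw [hxdef, herm_smul_right hF, herm_add_right hF, herm_smul_right hF, haa, mul_zero, add_zero,
      pow_q_pow_q hF, inv_mul_cancel₀ hax₁]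
  have hxa : h x a = 1 := by rw [← herm_conj hF, hax, one_pow]
  have hxx : h x x = 0 := by rw [hxdef, herm_smul_left hF, herm_smul_right hF, ht, mul_zero, mul_zero]
  obtain ⟨Z, hZW, hZdim, hZ⟩ := exists_perp_pair (W := W) hF a x
  have hZn : Nondeg q Z := by
    intro v hv hv0
    obtain ⟨w, hw, hvw⟩ := hWn v (hZW hv) hv0
    obtain ⟨hva, hvx⟩ := (hZ v (hZW hv)).1 hv
    refine ⟨w - h w x • a - h w a • x, (hZ _ ?_).2 ⟨?_, ?_⟩, ?_⟩
    · exact W.sub_mem (W.sub_mem hw (W.smul_mem _ ha)) (W.smul_mem _ hxW)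
    · simp only [h_sub_left hF, herm_smul_left hF, haa, hxa]; ring
    · simp only [h_sub_left hF, herm_smul_left hF, hax, hxx]; ring
    · simp only [h_sub_right hF, herm_smul_right hF, hva, hvx, mul_zero, sub_zero]; exact hvw
  obtain ⟨z, hz, hzz⟩ := exists_aniso hF hZn (fun e' => by rw [e', finrank_bot] at hZdim; omega)
  obtain ⟨hza, hzx⟩ := (hZ z (hZW hz)).1 hz
  obtain ⟨i, hi⟩ := exists_trace hF (r := -h z z) (by rw [q_neg hF, herm_conj hF])
  set y := i • a + x + z with hydef
  have hyW : y ∈ W := W.add_mem (W.add_mem (W.smul_mem _ ha) hxW) (hZW hz)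
  have hyy : h y y = 0 := by
    simp only [hydef, herm_add_left hF, herm_add_right hF, herm_smul_left hF, herm_smul_right hF, haa,
      hax, hxa, hxx, hza, hzx, h_symm hF hza, h_symm hF hzx]
    linear_combination hi
  have hya : h y a = 1 := by
    simp only [hydef, herm_add_left hF, herm_smul_left hF, haa, hxa, hza]; ring
  have hyx : h y x = i := by
    simp only [hydef, herm_add_left hF, herm_smul_left hF, hax, hxx, hzx]; ring
  have hr1 : a + (1 : F) • d ∈ root q H := by rwa [one_smul]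
  have hxδ := tr a ha haa 1 hr1 x hxW 0 (zero x hxW hxx) δ hδ
  rw [hxa, zero_add, mul_one, mul_one] at hxδ
  have hyfull : ∀ ν : F, y + ν • d ∈ root q H := by
    intro ν
    have hT : i + i ^ q ≠ 0 := by rw [hi]; exact neg_ne_zero.mpr hzz
    set r := (ν + ν ^ q) / (i + i ^ q) with hrdef
    have hrq : r ^ q = r := by rw [hrdef, div_pow, q_trace hF, q_trace hF]
    have hrT : r * (i + i ^ q) = ν + ν ^ q := div_mul_cancel₀ _ hT
    have h1 := tr a ha haa 1 hr1 y hyW 0 (zero y hyW hyy) (ν - r * i) (by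
      rw [q_sub hF, mul_pow, hrq]; linear_combination -hrT)
    have h2 := tr x hxW hxx δ hxδ y hyW _ h1 (r / δ) (by
      rw [div_pow, hrq, q_skew_eq hF hδ, div_neg, add_neg_cancel])
    rw [hya, hyx] at h2
    convert h2 using 3
    field_simp
    ring
  have hnear : ∀ z' ∈ W, h z' z' = 0 → h z' y ≠ 0 → ∀ ν : F, z' + ν • d ∈ root q H := by
    intro z' hz' hz'0 hzy ν
    have h1 := tr y hyW hyy (ν / (δ * h z' y)) (hyfull _) z' hz' 0 (zero z' hz' hz'0) δ hδ
    convert h1 using 3
    field_simp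
    ring
  have hall : ∀ x ∈ W, h x x = 0 → x ≠ 0 → ∀ ν : F, x + ν • d ∈ root q H := by
    intro v hv hvv hv0 ν
    by_cases hvy : h v y = 0
    swap
    · exact hnear v hv hvv hvy ν
    obtain ⟨w₁, hw₁, hvw₁⟩ := hWn v hv hv0
    obtain ⟨w, hw, hwv, hwy⟩ : ∃ w ∈ W, h w v ≠ 0 ∧ h w y ≠ 0 := by
      have hw₁v : h w₁ v ≠ 0 := fun e' => hvw₁ (h_symm hF e')
      by_cases hw₁y : h w₁ y = 0
      · have hay : h a y = 1 := by rw [← herm_conj hF, hya, one_pow]
        by_cases hsum : h (w₁ + a) v = 0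
        · refine ⟨a, ha, fun e' => hw₁v ?_, by rw [hay]; exact one_ne_zero⟩
          rw [herm_add_left hF, e', add_zero] at hsum; exact hsum
        · exact ⟨w₁ + a, W.add_mem hw₁ ha, hsum, by
            rw [herm_add_left hF, hw₁y, hay, zero_add]; exact one_ne_zero⟩
      · exact ⟨w₁, hw₁, hw₁v, hw₁y⟩
    obtain ⟨s, hs⟩ := exists_fill hF (x := w) hyy hwy
    have hzW : w + s • y ∈ W := W.add_mem hw (W.smul_mem _ hyW)
    have h1y : h (w + s • y) y ≠ 0 := by
      rw [herm_add_left hF, herm_smul_left hF, hyy, mul_zero, add_zero]; exact hwy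
    have h1v : h v (w + s • y) ≠ 0 := by
      rw [herm_add_right hF, herm_smul_right hF, hvy, mul_zero, add_zero]
      exact fun e' => hwv (h_symm hF e')
    have h2 := tr _ hzW hs (ν / (δ * h v (w + s • y))) (hnear _ hzW hs h1y _) v hv 0 (zero v hv hvv) δ hδ
    convert h2 using 3
    field_simp
    ring
  refine ⟨hall, hdd, fun c hc => ?_⟩
  obtain ⟨τ, hτ⟩ := exists_trace_one hF
  have hm := fun ν => hall a ha haa ha0 ν
  have hp : T (q := q) a c haa * T (a + (1 + τ) • d) c (hm _).1 *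
      (T (a + τ • d) (-c) (hm _).1 * T (a + (1 : F) • d) (-c) (hm _).1) = T (q := q) d c hdd := by
    refine gl_ext fun v => ?_
    simp only [Units.val_mul, ← mulVec_mulVec, T_mulVec, herm_add_left hF, herm_add_right hF,
      herm_smul_left hF, herm_smul_right hF, haa, hdd, hd a ha, h_symm hF (hd a ha), mul_zero, add_zero,
      q_add hF, one_pow]
    match_scalars <;> first | ring1 | linear_combination (c * h v d) * hτ
  rw [← hp]
  have hc' : -c + (-c) ^ q = 0 := by rw [q_neg hF]; linear_combination -hc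
  exact H.mul_mem (H.mul_mem ((hW a ha haa).2 c hc) ((hm _).2 c hc)) (H.mul_mem ((hm _).2 _ hc') ((hm _).2 _ hc'))

/-- From a singular vector orthogonal to `W` one grows by a hyperbolic plane. -/
theorem grow_singular {W : Submodule F Vs} (hW : Full q H W) (hWn : Nondeg q W)
    (hk : 3 ≤ Module.finrank F W) {a d : Vs} (ha : a ∈ W) (ha0 : a ≠ 0) (haa : h a a = 0)
    (hd : ∀ w ∈ W, h w d = 0) (hdd : h d d = 0) (hd0 : d ≠ 0) (hr : a + d ∈ root q H)
    (hspan : ∀ x : Vs, x ≠ 0 → ∃ r ∈ root q H, h r x ≠ 0) :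
    ∃ W' : Submodule F Vs, W ≤ W' ∧ Full q H W' ∧ Nondeg q W' ∧
      Module.finrank F W < Module.finrank F W' := by
  obtain ⟨hall, hdroot⟩ := root_add_singular hF hH hW hWn hk ha ha0 haa hd hdd hr
  obtain ⟨r₀, hr₀, hr₀d⟩ := hspan d hd0
  have hdr₀ : h d r₀ ≠ 0 := fun e => hr₀d (h_symm hF e)
  obtain ⟨r, hrroot, hdr⟩ : ∃ r ∈ root q H, h d r = 1 :=
    ⟨((h d r₀)⁻¹) ^ q • r₀, root_smul hF hr₀ _, by
      rw [herm_smul_right hF, pow_q_pow_q hF, inv_mul_cancel₀ hdr₀]⟩
  have hrd : h r d = 1 := by rw [← herm_conj hF, hdr, one_pow]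
  obtain ⟨δ, hδ, hδ0⟩ := exists_skew_ne hF
  let W' := W ⊔ Submodule.span F {d, r}
  have hdec : ∀ v ∈ W', ∃ w ∈ W, ∃ i j : F, v = (w - h w r • d) + i • d + j • r := by
    intro v hv
    obtain ⟨w, hw, p, hp, rfl⟩ := Submodule.mem_sup.mp hv
    obtain ⟨i, j, rfl⟩ := Submodule.mem_span_pair.mp hp
    exact ⟨w, hw, i + h w r, j, by module⟩
  have hform : ∀ w ∈ W, ∀ w' ∈ W, ∀ i j i' j' : F,
      h ((w - h w r • d) + i • d + j • r) ((w' - h w' r • d) + i' • d + j' • r)
        = h w w' + i * j' ^ q + j * i' ^ q := by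
    intro w hw w' hw' i j i' j'
    simp only [herm_add_left hF, herm_add_right hF, h_sub_left hF, h_sub_right hF, herm_smul_left hF,
      herm_smul_right hF, hd w hw, h_symm hF (hd w' hw'), hdd, hrroot.1, hdr, hrd, herm_conj hF w' r]
    ring
  have hdW' : d ∈ W' := Submodule.mem_sup_right (Submodule.subset_span (Set.mem_insert _ _))
  have hrW' : r ∈ W' := Submodule.mem_sup_right (Submodule.subset_span (Set.mem_insert_of_mem _ rfl))
  refine ⟨W', le_sup_left, ?_, ?_, ?_⟩
  · -- every singular vector is a root vector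
    have key : ∀ w ∈ W, h w w = 0 → ∀ i j : F, i * j ^ q + j * i ^ q = 0 →
        (w - h w r • d) + i • d + j • r ∈ root q H := by
      intro w hw hww i j hij
      rcases eq_or_ne w 0 with rfl | hw0
      · rw [h_zero_left hF, zero_smul, sub_zero, zero_add]
        exact full_plane hF hH hdroot hrroot hdr _ (Submodule.mem_span_pair.mpr ⟨i, j, rfl⟩) (by
          rw [h_comb hF, hdd, hrroot.1, hdr, hrd]; linear_combination hij)
      rcases eq_or_ne j 0 with rfl | hj
      · convert hall w hw hww hw0 (i - h w r) using 1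
        module
      have hj' : j ^ q ≠ 0 := pow_ne_zero _ hj
      have hkk : i / j - 1 / δ + (i / j - 1 / δ) ^ q = 0 := by
        rw [q_sub hF, div_pow, div_pow, one_pow, q_skew_eq hF hδ]
        field_simp
        linear_combination δ * hij
      have h1 := T_apply_root hF hH hdroot hkk
        (T_apply_root hF hH hrroot hδ (hall w hw hww hw0 (j / δ - h w r)))
      simp only [herm_add_left hF, herm_smul_left hF, hd w hw, hdd, hdr, hrd, mul_one, mul_zero,
        add_zero, zero_add] at h1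
      convert h1 using 1
      match_scalars <;> field_simp <;> ring
    intro v hv hv0
    obtain ⟨w, hw, i, j, rfl⟩ := hdec v hv
    rw [hform w hw w hw] at hv0
    by_cases hp : i * j ^ q + j * i ^ q = 0
    · exact key w hw (by linear_combination hv0 - hp) i j hp
    have hww : h w w ≠ 0 := fun e => hp (by linear_combination hv0 - e)
    -- split `w` into two singular vectors
    obtain ⟨ν, hν, hνne⟩ : ∃ ν : F, ν + ν ^ q = h w w ∧ ν + i * j ^ q ≠ 0 := by
      obtain ⟨ν₀, hν₀⟩ := exists_trace hF (r := h w w) (herm_conj hF w w)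
      by_cases h0 : ν₀ + i * j ^ q = 0
      · refine ⟨ν₀ + δ, by rw [q_add hF]; linear_combination hν₀ + hδ, fun e => hδ0 ?_⟩
        linear_combination e - h0
      · exact ⟨ν₀, hν₀, h0⟩
    obtain ⟨Z, hZW, hZdim, hZ⟩ := exists_perp_pair (W := W) hF w w
    have hZn : Nondeg q Z := by
      intro x hx hx0
      obtain ⟨y, hy, hxy⟩ := hWn x (hZW hx) hx0
      obtain ⟨hxw, -⟩ := (hZ x (hZW hx)).1 hx
      have e1 : h (y - (h y w / h w w) • w) w = 0 := by
        rw [h_sub_left hF, herm_smul_left hF, div_mul_cancel₀ _ hww, sub_self]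
      refine ⟨y - (h y w / h w w) • w, (hZ _ (W.sub_mem hy (W.smul_mem _ hw))).2 ⟨e1, e1⟩, ?_⟩
      rw [h_sub_right hF, herm_smul_right hF, hxw, mul_zero, sub_zero]; exact hxy
    obtain ⟨z, hz, hzz⟩ := exists_aniso hF hZn (fun e' => by rw [e', finrank_bot] at hZdim; omega)
    obtain ⟨hzw, -⟩ := (hZ z (hZW hz)).1 hz
    obtain ⟨s, hs⟩ := exists_norm hF (r := -(h w w) / h z z) (by
      rw [div_pow, q_neg hF, herm_conj hF, herm_conj hF])
    set w₁ := (ν / h w w) • (w + s • z) with hw₁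
    have hw₁W : w₁ ∈ W := W.smul_mem _ (W.add_mem hw (W.smul_mem _ (hZW hz)))
    have h11 : h w₁ w₁ = 0 := by
      simp only [hw₁, herm_smul_left hF, herm_smul_right hF, herm_add_left hF, herm_add_right hF, hzw,
        h_symm hF hzw]
      field_simp at hs
      linear_combination (ν / h w w * (ν / h w w) ^ q) * hs
    have h1w : h w₁ w = ν := by
      simp only [hw₁, herm_smul_left hF, herm_add_left hF, hzw]; field_simp; ring
    have hw1' : h w w₁ = ν ^ q := by rw [← herm_conj hF, h1w]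
    have h22 : h (w - w₁) (w - w₁) = 0 := by
      simp only [h_sub_left hF, h_sub_right hF, h11, h1w, hw1']; linear_combination -hν
    have hX := key w₁ hw₁W h11 i 0 (by rw [q_zero hF]; ring)
    have hY := key (w - w₁) (W.sub_mem hw hw₁W) h22 0 j (by rw [q_zero hF]; ring)
    have hsum : (w₁ - h w₁ r • d) + i • d + (0 : F) • r
        + ((w - w₁ - h (w - w₁) r • d) + (0 : F) • d + j • r) = (w - h w r • d) + i • d + j • r := by
      rw [h_sub_left hF]; module
    rw [← hsum]
    refine root_add hF hH hX hY ?_ ?_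
    · rw [hform w₁ hw₁W _ (W.sub_mem hw hw₁W), h_sub_right hF, h1w, h11, q_zero hF]
      intro e; exact hνne (by linear_combination e)
    · rw [hsum, hform w hw w hw]; exact hv0
  · intro v hv hv0
    obtain ⟨w, hw, i, j, rfl⟩ := hdec v hv
    by_cases hw0 : w = 0
    · subst hw0
      have e1 := hform 0 W.zero_mem 0 W.zero_mem i j 0 1
      have e2 := hform 0 W.zero_mem 0 W.zero_mem i j 1 0
      simp only [h_zero_left hF, zero_smul, sub_zero, zero_add, one_smul, add_zero, one_pow, mul_one,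
        q_zero hF, mul_zero] at e1 e2 hv0 ⊢
      by_cases hi : i = 0
      · refine ⟨d, hdW', ?_⟩
        rw [e2]
        intro hj; exact hv0 (by rw [hi, hj, zero_smul, zero_smul, add_zero])
      · exact ⟨r, hrW', by rw [e1]; exact hi⟩
    · obtain ⟨y, hy, hwy⟩ := hWn w hw hw0
      refine ⟨(y - h y r • d) + (0 : F) • d + (0 : F) • r, ?_, ?_⟩
      · exact W'.add_mem (W'.add_mem (W'.sub_mem (Submodule.mem_sup_left hy) (W'.smul_mem _ hdW'))
          (W'.smul_mem _ hdW')) (W'.smul_mem _ hrW')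
      · rw [hform w hw y hy, q_zero hF, mul_zero, mul_zero, add_zero, add_zero]; exact hwy
  · refine Submodule.finrank_lt_finrank_of_lt (lt_of_le_of_ne le_sup_left fun e => hd0 ?_)
    by_contra hd0'
    obtain ⟨y, hy, hdy⟩ := hWn d (e.ge hdW') hd0'
    exact hdy (h_symm hF (hd y hy))

omit hH in
/-- Splitting off the projection to a nondegenerate subspace. -/
theorem exists_decomp {W : Submodule F Vs} (hW : Nondeg q W) (v : Vs) :
    ∃ a ∈ W, ∀ w ∈ W, h w (v - a) = 0 := by
  have hg := hermSesq_goodForm (n := n) hF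
  set W' := perp (hermSesq hF n) W with hW'
  have hW'mem : ∀ {v : Vs}, v ∈ W' ↔ ∀ x ∈ W, h v x = 0 := by
    intro v
    rw [hW', mem_perp]
    simp only [hermSesq_apply]
  have hdisj : W ⊓ W' = ⊥ := by
    rw [eq_bot_iff]
    rintro v ⟨hv, hv'⟩
    rw [Submodule.mem_bot]
    by_contra h0
    obtain ⟨x, hx, hxv⟩ := hW v hv h0
    exact hxv (hW'mem.mp hv' x hx)
  have hsup : W ⊔ W' = ⊤ := by
    refine Submodule.eq_top_of_finrank_eq ?_
    have h1 := Submodule.finrank_sup_add_finrank_inf_eq W W'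
    rw [hdisj, finrank_bot, add_zero, hg.finrank_add_finrank_perp, Module.finrank_fin_fun] at h1
    rw [h1, Module.finrank_fin_fun]
  obtain ⟨a, ha, b, hb, rfl⟩ := Submodule.mem_sup.mp (hsup.ge (Submodule.mem_top (x := v)))
  exact ⟨a, ha, fun w hw => by rw [add_sub_cancel_left]; exact h_symm hF (hW'mem.mp hb w hw)⟩

/-- A subgroup with a regular unipotent and a full nondegenerate subspace is everything. -/
theorem eq_suGL_of_full (hn : 3 ≤ n) (hn2 : ¬ (n = 3 ∧ q = 2)) {u : GL (Fin n) F} (hu : u ∈ H) {e : Vs}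
    (hue : (u : Matrix (Fin n) (Fin n) F) *ᵥ e = e)
    (hfix : ∀ x : Vs, (u : Matrix (Fin n) (Fin n) F) *ᵥ x = x → ∃ t : F, x = t • e)
    (hnil : ∀ x : Vs, ∃ k : ℕ, ((fun y => (u : Matrix (Fin n) (Fin n) F) *ᵥ y - y))^[k] x = 0)
    (hspan : ∀ x : Vs, x ≠ 0 → ∃ r ∈ root q H, h r x ≠ 0)
    (W : Submodule F Vs) (hW : Full q H W) (hWn : Nondeg q W) (he : e ∈ W) (he0 : e ≠ 0) (hee : h e e = 0)
    (hbig : (3 ≤ q ∧ 3 ≤ Module.finrank F W) ∨ 4 ≤ Module.finrank F W) : H = suGL n F q := by
  induction hm : n - Module.finrank F W using Nat.strong_induction_on generalizing W with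
  | _ m ih =>
  by_cases htop : W = ⊤
  · exact eq_suGL hF hn hn2 hH fun v hv => hW v (htop ▸ Submodule.mem_top) hv
  obtain ⟨x, hx, hxx, hxe, hux⟩ : ∃ x ∈ W, h x x = 0 ∧ h x e ≠ 0 ∧ (u : Matrix (Fin n) (Fin n) F) *ᵥ x ∉ W := by
    by_contra hno
    push Not at hno
    obtain ⟨x₁, hx₁, hex₁⟩ := hWn e he he0
    have hx₁e : h x₁ e ≠ 0 := fun e' => hex₁ (h_symm hF e')
    obtain ⟨t₁, ht₁⟩ := exists_fill hF hee hx₁e
    set x₀ := x₁ + t₁ • e with hx₀
    have hx₀W : x₀ ∈ W := W.add_mem hx₁ (W.smul_mem _ he)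
    have hx₀e : h x₀ e ≠ 0 := by
      rw [hx₀, herm_add_left hF, herm_smul_left hF, hee, mul_zero, add_zero]; exact hx₁e
    have hsingle : ∀ w ∈ W, h w e ≠ 0 → (u : Matrix (Fin n) (Fin n) F) *ᵥ w ∈ W := by
      intro w hw hwe
      obtain ⟨t, ht⟩ := exists_fill hF hee hwe
      have h1 := hno _ (W.add_mem hw (W.smul_mem t he)) ht (by
        rw [herm_add_left hF, herm_smul_left hF, hee, mul_zero, add_zero]; exact hwe)
      rw [mulVec_add, mulVec_smul, hue] at h1
      exact (Submodule.add_mem_iff_left W (W.smul_mem _ he)).mp h1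
    have hstab : ∀ w ∈ W, (u : Matrix (Fin n) (Fin n) F) *ᵥ w ∈ W := by
      intro w hw
      by_cases hwe : h w e = 0
      · have h1 := hsingle _ (W.add_mem hw hx₀W) (by rw [herm_add_left hF, hwe, zero_add]; exact hx₀e)
        rw [mulVec_add] at h1
        exact (Submodule.add_mem_iff_left W (hsingle _ hx₀W hx₀e)).mp h1
      · exact hsingle w hw hwe
    obtain ⟨v, hv⟩ : ∃ v : Vs, v ∉ W := by
      by_contra hall
      push Not at hall
      exact htop (eq_top_iff.mpr fun v _ => hall v)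
    obtain ⟨a, ha, hperp⟩ := exists_decomp hF hWn v
    have hstab' : ∀ y : Vs, (∀ w ∈ W, h w y = 0) → ∀ w ∈ W, h w ((u : Matrix (Fin n) (Fin n) F) *ᵥ y - y) = 0 := by
      intro y hy w hw
      obtain ⟨w', hw', rfl⟩ : ∃ w' ∈ W, (u : Matrix (Fin n) (Fin n) F) *ᵥ w' = w := by
        let L : W → W := fun w => ⟨_, hstab w w.2⟩
        have hinj : Function.Injective L := fun a b hab => Subtype.ext (by
          have h2 := congrArg (((u⁻¹ : GL (Fin n) F) : Matrix (Fin n) (Fin n) F) *ᵥ ·)
            (congrArg Subtype.val hab)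
          simpa [L, inv_mulVec_mulVec] using h2)
        obtain ⟨w', hw'⟩ := (Finite.injective_iff_surjective.mp hinj) ⟨w, hw⟩
        exact ⟨w', w'.2, congrArg Subtype.val hw'⟩
      rw [h_sub_right hF, hy _ hw, apply_K (hH hu), hy _ hw', sub_zero]
    obtain ⟨k, hk⟩ := hnil (v - a)
    have horb : ∀ k, ∀ w ∈ W, h w (((fun y => (u : Matrix (Fin n) (Fin n) F) *ᵥ y - y))^[k] (v - a)) = 0 := by
      intro k
      induction k with
      | zero => exact hperp
      | succ k ihk => rw [Function.iterate_succ_apply']; exact hstab' _ ihk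
    have hzero : ∀ k, ((fun y => (u : Matrix (Fin n) (Fin n) F) *ᵥ y - y))^[k] (v - a) = 0 → v - a = 0 := by
      intro k
      induction k with
      | zero => intro h0; exact h0
      | succ k ihk =>
        intro h0
        rw [Function.iterate_succ_apply'] at h0
        obtain ⟨t, ht⟩ := hfix _ (sub_eq_zero.mp h0)
        refine ihk ?_
        by_contra hne
        obtain ⟨y, hy, hty⟩ := hWn _ (ht ▸ W.smul_mem t he) hne
        exact hty (h_symm hF (horb k y hy))
    exact hv (sub_eq_zero.mp (hzero k hk) ▸ ha)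
  set r := (u : Matrix (Fin n) (Fin n) F) *ᵥ x with hr
  have hrroot : r ∈ root q H := root_map hH hu (hW x hx hxx)
  obtain ⟨a, ha, hb⟩ := exists_decomp hF hWn r
  set b := r - a with hbdef
  have hab : a + b = r := add_sub_cancel a r
  have hre : h r e = h x e := by
    conv_lhs => rw [← hue]
    exact apply_K (hH hu) x e
  have hae : h a e ≠ 0 := by
    have : h r e = h a e := by rw [← hab, herm_add_left hF, h_symm hF (hb e he), add_zero]
    rw [← this, hre]; exact hxe
  have ha0 : a ≠ 0 := fun e' => hae (by rw [e', h_zero_left hF])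
  have hb0 : b ≠ 0 := fun e' => hux (by rw [sub_eq_zero.mp e']; exact ha)
  have hnorm : h a a + h b b = 0 := by
    have h0 := hrroot.1
    rw [← hab, herm_add_left hF, herm_add_right hF, herm_add_right hF, hb a ha,
      h_symm hF (hb a ha), zero_add, add_zero] at h0
    exact h0
  have hlt : ∀ W' : Submodule F Vs, W ≤ W' → Full q H W' → Nondeg q W' →
      Module.finrank F W < Module.finrank F W' → H = suGL n F q := by
    intro W' hle hf hnd hlt
    refine ih (n - Module.finrank F W') ?_ W' hf hnd (hle he) ?_ rfl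
    · have h1 := Submodule.finrank_le W'
      rw [Module.finrank_fin_fun] at h1
      omega
    · right
      rcases hbig with ⟨-, h3⟩ | h4 <;> omega
  by_cases hbb : h b b = 0
  · obtain ⟨W', h1, h2, h3, h4⟩ := grow_singular hF hH hW hWn (by rcases hbig with ⟨-, h3⟩ | h4 <;> omega)
      ha ha0 (by linear_combination hnorm - hbb) hb hbb hb0 (hab ▸ hrroot) hspan
    exact hlt W' h1 h2 h3 h4
  · refine hlt (W ⊔ Submodule.span F {b}) le_sup_left ?_ (nondeg_sup_aniso hF hWn hb hbb) ?_
    · refine full_sup_aniso hF hH hW hb fun a' ha' haa' => ?_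
      refine move_norm hF hH hW hWn hbig ha ha' hb ?_ ?_ (hab ▸ hrroot)
      · rw [haa']; linear_combination -hnorm
      · intro e'; exact hbb (by linear_combination hnorm - e')
    · refine Submodule.finrank_lt_finrank_of_lt (lt_of_le_of_ne le_sup_left fun e' => hbb ?_)
      exact hb b (e'.ge (Submodule.mem_sup_right (Submodule.mem_span_singleton_self b)))

end Cfsg.Agent.Lib.UnitaryReg9
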