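import Cfsg.Agent.Lib.UnitaryReg9.Grow

/-!
Regular unipotent elements of special unitary groups: Jordan chain, adjoint identity and the conjugate
differing by a transvection.
-/

set_option autoImplicit false
set_option linter.unusedSectionVars false

namespace Cfsg.Agent.Lib.UnitaryReg9

open Matrix Cfsg.Agent.Lib.Forms Cfsg.Agent.Lib.FormMax Cfsg.Agent.Lib.UnitaryMax

variable {F : Type*} [Field F] [Fintype F] {n q : ℕ}

local notation "Vs" => (Fin n → F)
local notation "h" => Cfsg.hermForm n F q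

/-- `u - 1` as a linear map. -/
def nu (u : GL (Fin n) F) : (Fin n → F) →ₗ[F] (Fin n → F) :=
  Matrix.mulVecLin ((u : Matrix (Fin n) (Fin n) F) - 1)

theorem nu_apply (u : GL (Fin n) F) (x : Vs) : nu u x = (u : Matrix (Fin n) (Fin n) F) *ᵥ x - x := by
  simp [nu, sub_mulVec]

theorem nu_comm (u : GL (Fin n) F) (i : ℕ) (x : Vs) :
    (nu u ^ i) ((u : Matrix (Fin n) (Fin n) F) *ᵥ x) = (u : Matrix (Fin n) (Fin n) F) *ᵥ (nu u ^ i) x := by
  induction i with
  | zero => simp
  | succ i ih =>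
    rw [pow_succ', Module.End.mul_apply, Module.End.mul_apply, ih, nu_apply, nu_apply, mulVec_sub]

theorem u_eq (u : GL (Fin n) F) (x : Vs) : (u : Matrix (Fin n) (Fin n) F) *ᵥ x = x + nu u x := by
  rw [nu_apply, add_sub_cancel]

/-- A regular unipotent element of `SU`, with the starting vector of a Jordan chain. -/
structure Reg (q : ℕ) (u : GL (Fin n) F) (y₀ : Fin n → F) : Prop where
  mem : u ∈ suGL n F q
  pow_zero : ∀ x, (nu u ^ n) x = 0
  pow_ne : (nu u ^ (n - 1)) y₀ ≠ 0

theorem nu_iterate (u : GL (Fin n) F) (k : ℕ) (x : Vs) :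
    ((fun y => (u : Matrix (Fin n) (Fin n) F) *ᵥ y - y))^[k] x = (nu u ^ k) x := by
  induction k with
  | zero => simp
  | succ k ih => rw [Function.iterate_succ_apply', ih, pow_succ', Module.End.mul_apply, nu_apply]

variable (hF : Fintype.card F = q ^ 2)
include hF

theorem h_nu {u : GL (Fin n) F} (hu : u ∈ suGL n F q) (x y : Vs) :
    h (nu u x) y = -h ((u : Matrix (Fin n) (Fin n) F) *ᵥ x) (nu u y) := by
  rw [nu_apply, nu_apply, h_sub_left hF, h_sub_right hF, apply_K hu]; ring

theorem h_pow_eq_zero {u : GL (Fin n) F} (hu : u ∈ suGL n F q) :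
    ∀ (i : ℕ) (x y : Vs), (nu u ^ i) y = 0 → h ((nu u ^ i) x) y = 0 := by
  intro i
  induction i with
  | zero => intro x y hy; simp only [pow_zero, Module.End.one_apply] at hy; rw [hy, h_zero_right hF]
  | succ i ih =>
    intro x y hy
    rw [pow_succ', Module.End.mul_apply, h_nu hF hu, ← nu_comm,
      ih _ (nu u y) (by rw [← Module.End.mul_apply, ← pow_succ]; exact hy), neg_zero]

variable {u : GL (Fin n) F} {y₀ : Fin n → F} (R : Reg q u y₀)
include R

/-- The fixed vector. -/
theorem pow_ge {i : ℕ} (hi : n ≤ i) (x : Vs) : (nu u ^ i) x = 0 := by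
  obtain ⟨k, rfl⟩ := Nat.exists_eq_add_of_le hi
  rw [pow_add, Module.End.mul_apply]; exact R.pow_zero _

theorem coeff_zero {c : Fin n → F} {j : ℕ} (hj : (nu u ^ j) (∑ i, c i • (nu u ^ (i : ℕ)) y₀) = 0) :
    ∀ i : Fin n, (i : ℕ) + j < n → c i = 0 := by
  suffices ∀ k : ℕ, ∀ i : Fin n, (i : ℕ) = k → k + j < n → c i = 0 from fun i hi => this _ i rfl hi
  intro k
  induction k using Nat.strong_induction_on with
  | _ k ih =>
    intro i hik hkj
    subst hik
    have h1 : (nu u ^ (n - 1 - (i : ℕ))) (∑ l, c l • (nu u ^ (l : ℕ)) y₀) = 0 := by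
      have : n - 1 - (i : ℕ) = (n - 1 - (i : ℕ) - j) + j := by omega
      rw [this, pow_add, Module.End.mul_apply, hj, map_zero]
    rw [map_sum, Finset.sum_eq_single i] at h1
    · rw [map_smul, ← Module.End.mul_apply, ← pow_add, show n - 1 - (i : ℕ) + i = n - 1 by omega] at h1
      exact (smul_eq_zero.mp h1).resolve_right R.pow_ne
    · intro l _ hl
      rw [map_smul]
      rcases Nat.lt_or_gt_of_ne (fun e => hl (Fin.ext e)) with hlt | hgt
      · rw [ih _ hlt l rfl (by omega), zero_smul]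
      · rw [← Module.End.mul_apply, ← pow_add, pow_ge hF R (by omega), smul_zero]
    · intro hni; exact absurd (Finset.mem_univ i) hni

theorem chain_indep : LinearIndependent F (fun i : Fin n => (nu u ^ (i : ℕ)) y₀) :=
  Fintype.linearIndependent_iff.mpr fun c hc i =>
    coeff_zero hF R (c := c) (j := 0) (by simpa using hc) i (by omega)

theorem exists_coeff (x : Vs) : ∃ c : Fin n → F, x = ∑ i, c i • (nu u ^ (i : ℕ)) y₀ := by
  have hs := (chain_indep hF R).span_eq_top_of_card_eq_finrank' (by simp)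
  obtain ⟨c, hc⟩ := (Submodule.mem_span_range_iff_exists_fun F).mp (hs ▸ Submodule.mem_top (x := x))
  exact ⟨c, hc.symm⟩

theorem fixed_line (hn : 1 ≤ n) (x : Vs) (hx : nu u x = 0) : ∃ t : F, x = t • (nu u ^ (n - 1)) y₀ := by
  obtain ⟨c, rfl⟩ := exists_coeff hF R x
  refine ⟨c ⟨n - 1, by omega⟩, ?_⟩
  rw [Finset.sum_eq_single (⟨n - 1, by omega⟩ : Fin n)]
  · intro i _ hi
    have : (i : ℕ) + 1 < n := by
      have := i.isLt
      have : (i : ℕ) ≠ n - 1 := fun e => hi (Fin.ext e)
      omega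
    rw [coeff_zero hF R (c := c) (j := 1) (by rw [pow_one]; exact hx) i this, zero_smul]
  · intro hh; exact absurd (Finset.mem_univ _) hh

theorem nu_fixed (hn : 1 ≤ n) : nu u ((nu u ^ (n - 1)) y₀) = 0 := by
  rw [← Module.End.mul_apply, ← pow_succ', pow_ge hF R (by omega)]

theorem u_fixed (hn : 1 ≤ n) :
    (u : Matrix (Fin n) (Fin n) F) *ᵥ ((nu u ^ (n - 1)) y₀) = (nu u ^ (n - 1)) y₀ := by
  rw [u_eq, nu_fixed hF R hn, add_zero]

theorem h_nu_fixed (hn : 1 ≤ n) (x : Vs) : h (nu u x) ((nu u ^ (n - 1)) y₀) = 0 := by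
  rw [h_nu hF R.mem, nu_fixed hF R hn, h_zero_right hF, neg_zero]

theorem h_y₀_ne (hn : 1 ≤ n) : h y₀ ((nu u ^ (n - 1)) y₀) ≠ 0 := by
  intro h0
  obtain ⟨v, hv⟩ := exists_h_ne hF R.pow_ne
  refine hv (h_symm hF ?_)
  obtain ⟨c, rfl⟩ := exists_coeff hF R v
  rw [← hermSesq_apply hF, map_sum]
  refine Finset.sum_eq_zero fun i _ => ?_
  rw [hermSesq_apply, herm_smul_left hF]
  rcases Nat.eq_zero_or_pos (i : ℕ) with hi | hi
  · rw [hi, pow_zero, Module.End.one_apply, h0, mul_zero]
  · obtain ⟨k, hk⟩ := Nat.exists_eq_add_of_le hi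
    rw [hk, pow_add, pow_one, Module.End.mul_apply, h_nu_fixed hF R hn, mul_zero]

/-- Orbits of a vector off the fixed hyperplane separate all vectors. -/
theorem orbit_spans (hn : 1 ≤ n) {H : Subgroup (GL (Fin n) F)} (hH : H ≤ suGL n F q) (hu : u ∈ H)
    {f : Vs} (hf : f ∈ root q H) (hfe : h f ((nu u ^ (n - 1)) y₀) ≠ 0) (x : Vs) (hx : x ≠ 0) :
    ∃ r ∈ root q H, h r x ≠ 0 := by
  by_contra hno
  push Not at hno
  have horb : ∀ i : ℕ, ∀ r ∈ root q H, h ((nu u ^ i) r) x = 0 := by
    intro i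
    induction i with
    | zero => intro r hr; rw [pow_zero, Module.End.one_apply]; exact hno r hr
    | succ i ih =>
      intro r hr
      rw [pow_succ, Module.End.mul_apply, nu_apply, map_sub, h_sub_left hF, ih _ (root_map hH hu hr), ih r hr,
        sub_zero]
  obtain ⟨c, hc⟩ := exists_coeff hF R f
  have R' : Reg q u f := by
    refine ⟨R.mem, R.pow_zero, fun h0 => hfe ?_⟩
    rw [hc] at h0
    have hc0 := coeff_zero hF R (c := c) h0 ⟨0, by omega⟩ (by simp; omega)
    rw [hc, ← hermSesq_apply hF, map_sum]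
    refine Finset.sum_eq_zero fun i _ => ?_
    rw [hermSesq_apply, herm_smul_left hF]
    rcases Nat.eq_zero_or_pos (i : ℕ) with hi | hi
    · rw [show i = ⟨0, by omega⟩ from Fin.ext hi, hc0, zero_mul]
    · obtain ⟨k, hk⟩ := Nat.exists_eq_add_of_le hi
      rw [hk, pow_add, pow_one, Module.End.mul_apply, h_nu_fixed hF R hn, mul_zero]
  obtain ⟨v, hv⟩ := exists_h_ne hF hx
  refine hv (h_symm hF ?_)
  obtain ⟨d, rfl⟩ := exists_coeff hF R' v
  rw [← hermSesq_apply hF, map_sum]
  refine Finset.sum_eq_zero fun i _ => ?_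
  rw [hermSesq_apply, herm_smul_left hF, horb _ f hf, mul_zero]

omit R in
/-- An Eichler element conjugates `u` to `T(e, t ^ q - t) * u`. -/
theorem conj_core (hu : u ∈ suGL n F q) {e w : Vs} {t c : F} (ht : t ^ q - t = c) (hee : h e e = 0)
    (hwe : h w e = 0) (hue : (u : Matrix (Fin n) (Fin n) F) *ᵥ e = e)
    (huw : (u : Matrix (Fin n) (Fin n) F) *ᵥ w = w + t • e) :
    ∃ g ∈ suGL n F q, g * u * g⁻¹ = T e c hee * u := by
  have hew := h_symm hF hwe
  obtain ⟨τ, hτ⟩ := exists_trace hF (r := -h w w) (by rw [q_neg hF, herm_conj hF])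
  set M : Matrix (Fin n) (Fin n) F :=
    1 + vecMulVec w (conjVec q e) + vecMulVec e (τ • conjVec q e - conjVec q w) with hM
  have hMv : ∀ x, M *ᵥ x = x + h x e • w + (τ * h x e - h x w) • e := fun x => by
    rw [hM, add_mulVec, add_mulVec, one_mulVec, vecMulVec_mulVec, vecMulVec_mulVec, sub_dotProduct,
      smul_dotProduct, conjVec_dotProduct, conjVec_dotProduct, smul_eq_mul]
    funext i; simp; ring
  have hdet : M.det = 1 := by
    rw [hM, det_one_add_two, sub_dotProduct, sub_dotProduct, smul_dotProduct, smul_dotProduct,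
      conjVec_dotProduct, conjVec_dotProduct, conjVec_dotProduct, conjVec_dotProduct, hwe, hew, hee]
    simp only [smul_eq_mul]; ring
  have hpres : ∀ x y, h (M *ᵥ x) (M *ᵥ y) = h x y := by
    intro x y
    simp only [hMv, herm_add_left hF, herm_add_right hF, herm_smul_left hF, herm_smul_right hF, hwe, hew,
      hee, q_sub hF, mul_pow, herm_conj hF y]
    linear_combination (h x e * h e y) * hτ
  refine ⟨glMk M hdet, glMk_mem M hdet hpres, ?_⟩
  rw [mul_inv_eq_iff_eq_mul]
  refine gl_ext fun x => ?_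
  simp only [Units.val_mul, ← mulVec_mulVec, glMk_val, hMv, T_mulVec, mulVec_add, mulVec_smul, hue, huw]
  have e1 : h ((u : Matrix (Fin n) (Fin n) F) *ᵥ x) e = h x e := by
    conv_lhs => rw [← hue]
    exact apply_K hu x e
  have e2 : h ((u : Matrix (Fin n) (Fin n) F) *ᵥ x) w = h x w + t ^ q * -h x e := by
    have h1 := apply_K hu x w
    rw [huw, herm_add_right hF, herm_smul_right hF, e1] at h1
    linear_combination h1
  simp only [herm_add_left hF, herm_smul_left hF, hwe, hee, e1, e2, mul_zero, add_zero]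
  match_scalars <;> first | ring1 | linear_combination (h x e) * ht | linear_combination (-(h x e)) * ht


/-- Some conjugate of `u` is `T(e, c) * u`. -/
theorem exists_conj_T_mul (hn : 3 ≤ n) {c : F} (hc : c + c ^ q = 0)
    (hee : h ((nu u ^ (n - 1)) y₀) ((nu u ^ (n - 1)) y₀) = 0) :
    ∃ g ∈ suGL n F q, g * u * g⁻¹ = T ((nu u ^ (n - 1)) y₀) c hee * u := by
  obtain ⟨t, ht⟩ := exists_sub_conj hF hc
  refine conj_core hF R.mem (w := t • (nu u ^ (n - 2)) y₀) ht hee ?_ (u_fixed hF R (by omega)) ?_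
  · rw [herm_smul_left hF, show n - 2 = (n - 3) + 1 by omega, pow_succ', Module.End.mul_apply,
      h_nu_fixed hF R (by omega), mul_zero]
  · rw [u_eq, map_smul, ← Module.End.mul_apply, ← pow_succ', show n - 2 + 1 = n - 1 by omega]

end Cfsg.Agent.Lib.UnitaryReg9
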